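import Mathlib
import Cfsg.Agent.H167.RV.Hall_m3
import Cfsg.Agent.H553.OddHall_m3
import Cfsg.Agent.H464.RM.Tools_m3
import Cfsg.Agent.Lib.CoprimeHyperplane
import Cfsg.Agent.Solvable.Hall
import Cfsg.Agent.H171.RV.FactsA
import Cfsg.Agent.H153.RM.J23
import Cfsg.Agent.H555.Hall.ZStar_m3
import Cfsg.Agent.H865.RhoEleven
import Cfsg.Agent.H858.Trans5
import Cfsg.Agent.QTNorm.SporJ4
import Cfsg.Agent.S5573
import Cfsg.Agent.S5575
import Cfsg.Agent.S1703
import Cfsg.Agent.H337.JankoOfIso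
import Cfsg.Agent.H603.SporElim
import Cfsg.Agent.H647.SpF.HSMcL
import Cfsg.Agent.H436.HeFive_m3
import Cfsg.Agent.H555.Hall.HNFiveB
import Cfsg.Agent.FastGrp
import Cfsg.Agent.Prune
set_option linter.all false

section
prune_inst 0x7ffcaaf8abb889deffff7e7faedcdffc38949fffa6dff94bffe461ff8bdf230209c5f38d09e050fe0eb6c21410a87803f9ffcabfea6bdc7ffffd5ff45ffbee1fe5f7bd09519488340fb82ff683f0778e7f3fffffffffffffffffffffffffffbeffbfffffffff

-- part: H750/RM/Eig
section
prune_inst 0x30107504742210000000000002001c62a2000002004800000080020005890c0000400020b2300110100208044038006003540000420000000a000000011c00800000000000000000000000000000000000000000000000000000000000000000000000000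
set_option linter.all false
open scoped Cfsg.Agent.FastGrp

/-!
# S3849, piece EIG (helper750): elements whose eigenvalues contain no full coset of `μ_r`

`A` is a commutative subgroup, `|A| ≠ 0` in the field, `z` normalises `A` and `z ^ r ^ m` centralises `A`. If the
eigenvalues of `z` (over an algebraic closure) contain no full coset `c μ_r`, then `z` centralises `A`.
-/

set_option autoImplicit false

namespace Cfsg.Agent.H750.RM

open Module Polynomial

section core

variable {k : Type*} [Field k] [IsAlgClosed k]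

/-- an eigenvector for an operator of finite order which does not fix `t` -/
theorem exists_eig_of_ne {W : Type*} [AddCommGroup W] [Module k W] (Φ : W →ₗ[k] W) (U : Submodule k W)
    (hU : ∀ u ∈ U, Φ u ∈ U) {n : ℕ} (hn : (n : k) ≠ 0) {t : W} (ht : t ∈ U) (hΦ : (Φ ^ n) t = t) (hne : Φ t ≠ t) :
    ∃ η : k, η ≠ 1 ∧ η ^ n = 1 ∧ ∃ s ∈ U, s ≠ 0 ∧ Φ s = η • s := by
  have : NeZero (n : k) := ⟨hn⟩
  have hn0 : n ≠ 0 := by
    rintro rfl
    exact hn (by simp)
  have : NeZero n := ⟨hn0⟩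
  obtain ⟨ζ, hζ⟩ := HasEnoughRootsOfUnity.exists_primitiveRoot k n
  have hζ0 : ζ ≠ 0 := hζ.ne_zero hn0
  have hpow : ∀ i, ∀ u ∈ U, (Φ ^ i) u ∈ U := by
    intro i
    induction i with
    | zero => intro u hu; simpa using hu
    | succ i ih =>
      intro u hu
      rw [pow_succ', Module.End.mul_apply]
      exact hU _ (ih u hu)
  -- the eigenvectors
  set s : ℕ → W := fun j => ∑ i ∈ Finset.range n, ((ζ ^ j)⁻¹) ^ i • (Φ ^ i) t with hs
  have hsU : ∀ j, s j ∈ U := fun j => U.sum_mem fun i _ => U.smul_mem _ (hpow i t ht)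
  have hseig : ∀ j, Φ (s j) = (ζ ^ j) • s j := by
    intro j
    have hj0 : (ζ ^ j) ≠ 0 := pow_ne_zero _ hζ0
    have hjn : ((ζ ^ j)⁻¹) ^ n = 1 := by
      rw [inv_pow, ← pow_mul, mul_comm, pow_mul, hζ.pow_eq_one, one_pow, inv_one]
    have e1 : Φ (s j) = (ζ ^ j) • ∑ i ∈ Finset.range n, ((ζ ^ j)⁻¹) ^ (i + 1) • (Φ ^ (i + 1)) t := by
      rw [hs]
      beta_reduce
      rw [map_sum, Finset.smul_sum]
      refine Finset.sum_congr rfl fun i _ => ?_
      rw [map_smul, pow_succ' Φ, Module.End.mul_apply, smul_smul]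
      congr 1
      rw [pow_succ, mul_comm, mul_assoc, inv_mul_cancel₀ hj0, mul_one]
    have e2 : ∑ i ∈ Finset.range n, ((ζ ^ j)⁻¹) ^ (i + 1) • (Φ ^ (i + 1)) t = s j := by
      have h3 := Finset.sum_range_succ' (fun i => ((ζ ^ j)⁻¹) ^ i • (Φ ^ i) t) n
      have h4 := Finset.sum_range_succ (fun i => ((ζ ^ j)⁻¹) ^ i • (Φ ^ i) t) n
      rw [h4] at h3
      rw [hjn, hΦ, one_smul] at h3
      simp only [pow_zero, one_smul, Module.End.one_apply] at h3
      exact (add_right_cancel h3).symm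
    rw [e1, e2]
  by_contra hcon
  push Not at hcon
  -- all `s j` with `0 < j < n` are zero
  have hz : ∀ j ∈ Finset.range n, j ≠ 0 → s j = 0 := by
    intro j hj hj0
    by_contra hne0
    have hη1 : ζ ^ j ≠ 1 := hζ.pow_ne_one_of_pos_of_lt hj0 (Finset.mem_range.mp hj)
    have hηn : (ζ ^ j) ^ n = 1 := by rw [← pow_mul, mul_comm, pow_mul, hζ.pow_eq_one, one_pow]
    exact hcon (ζ ^ j) hη1 hηn (s j) (hsU j) hne0 (hseig j)
  have hsum : ∑ j ∈ Finset.range n, s j = s 0 := by
    refine Finset.sum_eq_single_of_mem 0 (Finset.mem_range.mpr (Nat.pos_of_ne_zero hn0)) fun j hj hj0 => hz j hj hj0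
  have hsum2 : ∑ j ∈ Finset.range n, s j = (n : k) • t := by
    rw [hs]
    beta_reduce
    rw [Finset.sum_comm]
    have e1 : ∀ i ∈ Finset.range n, ∑ j ∈ Finset.range n, ((ζ ^ j)⁻¹) ^ i • (Φ ^ i) t =
        if i = 0 then (n : k) • t else 0 := by
      intro i hi
      rw [← Finset.sum_smul]
      split_ifs with h0
      · subst h0
        simp
      · have h1 : ∑ j ∈ Finset.range n, ((ζ ^ j)⁻¹) ^ i = 0 := by
          have h2 : ∀ j ∈ Finset.range n, ((ζ ^ j)⁻¹) ^ i = ((ζ ^ i)⁻¹) ^ j := by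
            intro j _
            rw [inv_pow, inv_pow, ← pow_mul, ← pow_mul, mul_comm]
          rw [Finset.sum_congr rfl h2]
          have h3 : (ζ ^ i)⁻¹ ≠ 1 := by
            rw [ne_eq, inv_eq_one]
            exact hζ.pow_ne_one_of_pos_of_lt h0 (Finset.mem_range.mp hi)
          have h4 : ((ζ ^ i)⁻¹) ^ n = 1 := by
            rw [inv_pow, ← pow_mul, mul_comm, pow_mul, hζ.pow_eq_one, one_pow, inv_one]
          have h5 := mul_neg_geom_sum ((ζ ^ i)⁻¹) n
          rw [h4, sub_self] at h5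
          exact (mul_eq_zero.mp h5).resolve_left (sub_ne_zero.mpr h3.symm)
        rw [h1, zero_smul]
    rw [Finset.sum_congr rfl e1, Finset.sum_ite_eq' (Finset.range n) 0]
    rw [if_pos (Finset.mem_range.mpr (Nat.pos_of_ne_zero hn0))]
  have hfix : Φ (s 0) = s 0 := by
    have := hseig 0
    simpa using this
  rw [← hsum, hsum2, map_smul] at hfix
  exact hne (smul_right_injective W hn hfix)

variable {V : Type*} [AddCommGroup V] [Module k V] [FiniteDimensional k V]

/-- commuting semisimple endomorphisms: their span consists of semisimple endomorphisms -/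
theorem ss_of_span {S : Set (End k V)} (hc : ∀ x ∈ S, ∀ y ∈ S, x * y = y * x) (hs : ∀ x ∈ S, x.IsSemisimple) :
    ∀ x ∈ Submodule.span k S, x.IsSemisimple := by
  have hcomm1 : ∀ x ∈ Submodule.span k S, ∀ y ∈ S, Commute x y := by
    intro x hx y hy
    induction hx using Submodule.span_induction with
    | mem x hx => exact hc x hx y hy
    | zero => exact Commute.zero_left y
    | add a b _ _ ha hb => exact ha.add_left hb
    | smul c a _ ha => exact ha.smul_left c
  have hcomm : ∀ x ∈ Submodule.span k S, ∀ y ∈ Submodule.span k S, Commute x y := by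
    intro x hx y hy
    induction hy using Submodule.span_induction with
    | mem y hy => exact hcomm1 x hx y hy
    | zero => exact Commute.zero_right x
    | add a b _ _ ha hb => exact ha.add_right hb
    | smul c a _ ha => exact ha.smul_right c
  intro x hx
  induction hx using Submodule.span_induction with
  | mem x hx => exact hs x hx
  | zero => exact Module.End.isSemisimple_zero
  | add a b ha hb iha ihb => exact Module.End.IsSemisimple.add_of_commute (hcomm a ha b hb) iha ihb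
  | smul c a _ iha => exact Module.End.IsSemisimple_smul c iha

omit [IsAlgClosed k] [FiniteDimensional k V] in
/-- a finite order element is semisimple -/
theorem ss_of_pow {x : End k V} {n : ℕ} (hn : (n : k) ≠ 0) (hx : x ^ n = 1) : x.IsSemisimple := by
  refine Module.End.isSemisimple_of_squarefree_aeval_eq_zero (p := X ^ n - C (1 : k)) ?_ ?_
  · exact (Polynomial.separable_X_pow_sub_C (1 : k) hn one_ne_zero).squarefree
  · simp [hx]

omit [IsAlgClosed k] in
/-- the stable range of an endomorphism which is not nilpotent -/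
theorem exists_stable {s : End k V} (hs : ¬ IsNilpotent s) : ∃ N : ℕ, LinearMap.range (s ^ N) ≠ ⊥ ∧
    ∀ v ∈ LinearMap.range (s ^ N), v ≠ 0 → ∀ i, (s ^ i) v ≠ 0 := by
  obtain ⟨N, hN⟩ := Filter.eventually_atTop.mp (Module.End.eventually_disjoint_ker_pow_range_pow s)
  refine ⟨N + 1, ?_, ?_⟩
  · intro h
    rw [LinearMap.range_eq_bot] at h
    exact hs ⟨_, h⟩
  · have hd := hN (N + 1) (Nat.le_succ N)
    have key : ∀ v ∈ LinearMap.range (s ^ (N + 1)), v ≠ 0 → s v ∈ LinearMap.range (s ^ (N + 1)) ∧ s v ≠ 0 := by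
      rintro _ ⟨w, rfl⟩ hv
      refine ⟨⟨s w, ?_⟩, fun h0 => hv ?_⟩
      · rw [← Module.End.mul_apply, ← Module.End.mul_apply, ← pow_succ, ← pow_succ']
      · have h1 : (s ^ (N + 1)) w ∈ LinearMap.ker (s ^ (N + 1)) := by
          rw [LinearMap.mem_ker, pow_succ s N, Module.End.mul_apply, ← pow_succ, h0, map_zero]
        have h2 := Submodule.disjoint_def.mp hd _ h1 ⟨w, rfl⟩
        exact h2
    intro v hv hv0 i
    have : (s ^ i) v ∈ LinearMap.range (s ^ (N + 1)) ∧ (s ^ i) v ≠ 0 := by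
      induction i with
      | zero => exact ⟨by simpa using hv, by simpa using hv0⟩
      | succ i ih =>
        rw [pow_succ' s i, Module.End.mul_apply]
        exact key _ ih.1 ih.2
    exact this.2

omit [IsAlgClosed k] [FiniteDimensional k V] in
theorem mul_pow_comm {z s : End k V} {ω : k} (hzs : z * s = ω • (s * z)) (i : ℕ) :
    z * s ^ i = ω ^ i • (s ^ i * z) := by
  induction i with
  | zero => simp
  | succ i ih =>
    rw [pow_succ s, ← mul_assoc, ih, smul_mul_assoc, mul_assoc, hzs, mul_smul_comm, smul_smul, ← mul_assoc,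
      pow_succ]

/-- an invertible `z` with `z s = ω s z`, `s` not nilpotent, has the eigenvalues `c ω ^ i` -/
theorem coset_of_comm {z s : End k V} {ω : k} (hz : IsUnit z) (hzs : z * s = ω • (s * z)) (hs : ¬ IsNilpotent s) :
    ∃ c : k, c ≠ 0 ∧ ∀ i : ℕ, z.HasEigenvalue (c * ω ^ i) := by
  obtain ⟨N, hN, hst⟩ := exists_stable hs
  have hpow : ∀ i, z * s ^ i = ω ^ i • (s ^ i * z) := mul_pow_comm hzs
  have hmaps : ∀ v ∈ LinearMap.range (s ^ N), z v ∈ LinearMap.range (s ^ N) := by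
    rintro _ ⟨w, rfl⟩
    refine ⟨ω ^ N • z w, ?_⟩
    rw [map_smul, ← Module.End.mul_apply, ← Module.End.mul_apply, hpow N, LinearMap.smul_apply]
  have : Nontrivial (LinearMap.range (s ^ N)) := Submodule.nontrivial_iff_ne_bot.mpr hN
  obtain ⟨c, hc⟩ := Module.End.exists_eigenvalue (z.restrict hmaps)
  obtain ⟨v, hv⟩ := hc.exists_hasEigenvector
  have hv1 : z (v : V) = c • (v : V) := by
    have := congrArg Subtype.val hv.apply_eq_smul
    simpa using this
  have hv0 : (v : V) ≠ 0 := fun h => hv.2 (Subtype.ext h)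
  have hinj : Function.Injective z := (Module.End.isUnit_iff z).mp hz |>.1
  refine ⟨c, ?_, fun i => ?_⟩
  · rintro rfl
    rw [zero_smul] at hv1
    exact hv0 (hinj (by rw [hv1, map_zero]))
  · refine Module.End.hasEigenvalue_of_hasEigenvector (x := (s ^ i) (v : V)) ⟨?_, hst v v.2 hv0 i⟩
    rw [Module.End.mem_eigenspace_iff, ← Module.End.mul_apply, hpow i, LinearMap.smul_apply, Module.End.mul_apply, hv1,
      map_smul, smul_smul, mul_comm]

variable {G : Type*} [Group G]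

omit [IsAlgClosed k] [FiniteDimensional k V] in
theorem span_conj (ρ : G →* End k V) {A : Subgroup G} {z : G} (hn : ∀ a ∈ A, z * a * z⁻¹ ∈ A) :
    ∀ u ∈ Submodule.span k (ρ '' (A : Set G)), ρ z * u * ρ z⁻¹ ∈ Submodule.span k (ρ '' (A : Set G)) := by
  intro u hu
  induction hu using Submodule.span_induction with
  | mem x hx =>
    obtain ⟨a, ha, rfl⟩ := hx
    refine Submodule.subset_span ⟨z * a * z⁻¹, hn a ha, ?_⟩
    rw [map_mul, map_mul]
  | zero => rw [mul_zero, zero_mul]; exact Submodule.zero_mem _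
  | add a b _ _ ha hb => rw [mul_add, add_mul]; exact Submodule.add_mem _ ha hb
  | smul c a _ ha => rw [mul_smul_comm, smul_mul_assoc]; exact Submodule.smul_mem _ c ha

theorem span_ss (ρ : G →* End k V) {A : Subgroup G} (hA : ∀ a ∈ A, ∀ b ∈ A, a * b = b * a)
    (hcard : (Nat.card A : k) ≠ 0) : ∀ u ∈ Submodule.span k (ρ '' (A : Set G)), u.IsSemisimple := by
  refine ss_of_span ?_ ?_
  · rintro _ ⟨a, ha, rfl⟩ _ ⟨b, hb, rfl⟩
    rw [← map_mul, ← map_mul, hA a ha b hb]
  · rintro _ ⟨a, ha, rfl⟩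
    refine ss_of_pow hcard ?_
    have h1 : (⟨a, ha⟩ : A) ^ Nat.card A = 1 := pow_card_eq_one'
    have h2 : a ^ Nat.card A = 1 := congrArg Subtype.val h1
    rw [← map_pow, h2, map_one]

/-- **EIG**, algebraically closed case. -/
theorem eig_core (ρ : G →* End k V) {A : Subgroup G} (hA : ∀ a ∈ A, ∀ b ∈ A, a * b = b * a)
    (hcard : (Nat.card A : k) ≠ 0) {r : ℕ} (hr : r.Prime) (hrk : (r : k) ≠ 0) {z : G}
    (hn : ∀ a ∈ A, z * a * z⁻¹ ∈ A) {m : ℕ}
    (hz : ∀ a ∈ A, ρ (z ^ r ^ m) * ρ a = ρ a * ρ (z ^ r ^ m))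
    (heig : ∀ c : k, c ≠ 0 → ∃ x : k, x ^ r = 1 ∧ ¬ (ρ z).HasEigenvalue (c * x)) :
    ∀ a ∈ A, ρ z * ρ a = ρ a * ρ z := by
  intro a ha
  by_contra hne
  have hinv : ρ z⁻¹ * ρ z = 1 := by rw [← map_mul, inv_mul_cancel, map_one]
  have hinv' : ρ z * ρ z⁻¹ = 1 := by rw [← map_mul, mul_inv_cancel, map_one]
  set Φ : End k V →ₗ[k] End k V := (LinearMap.mulRight k (ρ z⁻¹)).comp (LinearMap.mulLeft k (ρ z)) with hΦ
  have hΦa : ∀ u, Φ u = ρ z * u * ρ z⁻¹ := fun u => rfl
  have hΦi : ∀ i u, (Φ ^ i) u = ρ (z ^ i) * u * ρ (z ^ i)⁻¹ := by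
    intro i
    induction i with
    | zero => intro u; simp
    | succ i ih =>
      intro u
      rw [pow_succ' Φ, Module.End.mul_apply, ih, hΦa, pow_succ' z, mul_inv_rev, map_mul, map_mul]
      simp only [mul_assoc]
  obtain ⟨η, hη1, hηn, s, hsU, hs0, hs⟩ := exists_eig_of_ne Φ (Submodule.span k (ρ '' (A : Set G)))
    (fun u hu => span_conj ρ hn u hu) (n := r ^ m) (by push_cast; exact pow_ne_zero _ hrk) (t := ρ a)
    (Submodule.subset_span ⟨a, ha, rfl⟩)
    (by
      rw [hΦi, hz a ha, mul_assoc, ← map_mul, mul_inv_cancel, map_one, mul_one])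
    (by
      intro h
      rw [hΦa] at h
      apply hne
      have h2 := congrArg (· * ρ z) h
      beta_reduce at h2
      rwa [mul_assoc, hinv, mul_one] at h2)
  have hsnil : ¬ IsNilpotent s := fun h =>
    hs0 (Module.End.eq_zero_of_isNilpotent_isSemisimple h (span_ss ρ hA hcard s hsU))
  have hzs : ρ z * s = η • (s * ρ z) := by
    rw [hΦa] at hs
    have h2 := congrArg (· * ρ z) hs
    beta_reduce at h2
    rwa [mul_assoc, hinv, mul_one, smul_mul_assoc] at h2
  obtain ⟨l, -, hl⟩ := (Nat.dvd_prime_pow hr).mp (orderOf_dvd_of_pow_eq_one hηn)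
  have hl0 : l ≠ 0 := by
    rintro rfl
    rw [pow_zero, orderOf_eq_one_iff] at hl
    exact hη1 hl
  obtain ⟨l', rfl⟩ := Nat.exists_eq_succ_of_ne_zero hl0
  have hω : IsPrimitiveRoot (η ^ r ^ l') r := by
    refine (IsPrimitiveRoot.orderOf η).pow (orderOf_pos_iff.mpr ?_) (a := r ^ l') ?_
    · exact isOfFinOrder_iff_pow_eq_one.mpr ⟨r ^ m, pow_pos hr.pos m, hηn⟩
    · rw [hl, pow_succ]
  have hs' : ¬ IsNilpotent (s ^ r ^ l') := by
    rintro ⟨N, hN⟩
    exact hsnil ⟨r ^ l' * N, by rw [pow_mul, hN]⟩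
  obtain ⟨c, hc0, hc⟩ := coset_of_comm (z := ρ z) (s := s ^ r ^ l') (ω := η ^ r ^ l')
    ((Units.map (ρ : G →* End k V) (toUnits z)).isUnit) (mul_pow_comm hzs _) hs'
  obtain ⟨x, hx, hnx⟩ := heig c hc0
  have : NeZero r := ⟨hr.ne_zero⟩
  obtain ⟨i, -, rfl⟩ := hω.eq_pow_of_pow_eq_one hx
  exact hnx (hc i)

end core

section field

variable {K L : Type*} [Field K] [Field L] [IsAlgClosed L] [Algebra K L]

/-- no full coset of `μ_r` among the roots of `f` in `L` -/
def NoCoset (L : Type*) [Field L] [Algebra K L] (r : ℕ) (f : K[X]) : Prop :=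
  ∀ c : L, c ≠ 0 → ∃ x : L, x ^ r = 1 ∧ ¬ (f.map (algebraMap K L)).IsRoot (c * x)

/-- base change of matrices, as endomorphisms -/
noncomputable def bc (K L : Type*) [Field K] [Field L] [Algebra K L] {ι : Type*} [Fintype ι] [DecidableEq ι] :
    Matrix ι ι K →* End L (ι → L) :=
  (MonoidHomClass.toMonoidHom (Matrix.toLinAlgEquiv' : Matrix ι ι L ≃ₐ[L] End L (ι → L))).comp
    (MonoidHomClass.toMonoidHom ((algebraMap K L).mapMatrix : Matrix ι ι K →+* Matrix ι ι L))

omit [IsAlgClosed L] in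
theorem bc_apply {ι : Type*} [Fintype ι] [DecidableEq ι] (M : Matrix ι ι K) :
    bc K L M = Matrix.toLin' (M.map (algebraMap K L)) := rfl

omit [IsAlgClosed L] in
theorem bc_inj {ι : Type*} [Fintype ι] [DecidableEq ι] {M N : Matrix ι ι K} (h : bc K L M = bc K L N) : M = N := by
  rw [bc_apply, bc_apply] at h
  have h1 := Matrix.toLin'.injective h
  exact Matrix.map_injective (algebraMap K L).injective h1

theorem bc_eig {ι : Type*} [Fintype ι] [DecidableEq ι] (M : Matrix ι ι K) (c : L) :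
    (bc K L M).HasEigenvalue c ↔ (M.charpoly.map (algebraMap K L)).IsRoot c := by
  rw [Module.End.hasEigenvalue_iff_isRoot_charpoly, bc_apply, Matrix.charpoly_toLin', Matrix.charpoly_map]

variable {G : Type*} [Group G]

/-- **EIG** for matrices over a field `K`; `L` an algebraically closed extension field. -/
theorem eig_matrix {ι : Type*} [Fintype ι] [DecidableEq ι] (ρ : G →* Matrix ι ι K) {A : Subgroup G}
    (hA : ∀ a ∈ A, ∀ b ∈ A, a * b = b * a) (hcard : (Nat.card A : K) ≠ 0) {r : ℕ} (hr : r.Prime)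
    (hrk : (r : K) ≠ 0) {z : G} (hn : ∀ a ∈ A, z * a * z⁻¹ ∈ A) {m : ℕ}
    (hz : ∀ a ∈ A, ρ (z ^ r ^ m) * ρ a = ρ a * ρ (z ^ r ^ m)) (heig : NoCoset L r (ρ z).charpoly) :
    ∀ a ∈ A, ρ z * ρ a = ρ a * ρ z := by
  intro a ha
  refine bc_inj (L := L) ?_
  rw [map_mul, map_mul]
  refine eig_core ((bc K L).comp ρ) hA ?_ hr ?_ hn (m := m) ?_ ?_ a ha
  · intro h
    apply hcard
    have h1 : algebraMap K L (Nat.card A : K) = 0 := by rw [map_natCast]; exact h
    exact (map_eq_zero _).mp h1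
  · intro h
    apply hrk
    have h1 : algebraMap K L (r : K) = 0 := by rw [map_natCast]; exact h
    exact (map_eq_zero _).mp h1
  · intro b hb
    rw [MonoidHom.comp_apply, MonoidHom.comp_apply, ← map_mul, hz b hb, map_mul]
  · intro c hc
    obtain ⟨x, hx, hx'⟩ := heig c hc
    exact ⟨x, hx, fun h => hx' ((bc_eig _ _).mp h)⟩

/-- **EIG** for endomorphisms of a vector space over a field `K`. -/
theorem eig_end {V : Type*} [AddCommGroup V] [Module K V] [FiniteDimensional K V] (ρ : G →* End K V) {A : Subgroup G}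
    (hA : ∀ a ∈ A, ∀ b ∈ A, a * b = b * a) (hcard : (Nat.card A : K) ≠ 0) {r : ℕ} (hr : r.Prime)
    (hrk : (r : K) ≠ 0) {z : G} (hn : ∀ a ∈ A, z * a * z⁻¹ ∈ A) {m : ℕ}
    (hz : ∀ a ∈ A, ρ (z ^ r ^ m) * ρ a = ρ a * ρ (z ^ r ^ m)) (heig : NoCoset L r (ρ z).charpoly) :
    ∀ a ∈ A, ρ z * ρ a = ρ a * ρ z := by
  classical
  intro a ha
  let b := Module.Free.chooseBasis K V
  let e := LinearMap.toMatrixAlgEquiv b
  refine e.injective ?_
  rw [map_mul, map_mul]
  refine eig_matrix (L := L) ((MonoidHomClass.toMonoidHom e).comp ρ) hA hcard hr hrk hn (m := m) ?_ ?_ a ha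
  · intro b hb
    have := congrArg e (hz b hb)
    rwa [map_mul, map_mul] at this
  · have h1 : (e (ρ z)).charpoly = (ρ z).charpoly := LinearMap.charpoly_toMatrix (ρ z) b
    show NoCoset L r (e (ρ z)).charpoly
    rw [h1]
    exact heig

theorem noCoset_of_finset {r : ℕ} (hr : 0 < r) (hrL : (r : L) ≠ 0) {f : K[X]} (S : Finset L)
    (hS : ∀ x : L, (f.map (algebraMap K L)).IsRoot x → x ∈ S) (hcard : S.card < r) : NoCoset L r f := by
  classical
  intro c hc
  by_contra hcon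
  push Not at hcon
  have : NeZero (r : L) := ⟨hrL⟩
  have : NeZero r := ⟨hr.ne'⟩
  obtain ⟨ω, hω⟩ := HasEnoughRootsOfUnity.exists_primitiveRoot L r
  have h1 : (Finset.range r).image (fun i => c * ω ^ i) ⊆ S := by
    intro y hy
    obtain ⟨i, -, rfl⟩ := Finset.mem_image.mp hy
    refine hS _ (hcon _ ?_)
    rw [← pow_mul, mul_comm, pow_mul, hω.pow_eq_one, one_pow]
  have h2 : ((Finset.range r).image (fun i => c * ω ^ i)).card = r := by
    rw [Finset.card_image_of_injOn, Finset.card_range]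
    intro i hi j hj hij
    exact hω.pow_inj (Finset.mem_range.mp hi) (Finset.mem_range.mp hj) (mul_left_cancel₀ hc hij)
  have h3 := Finset.card_le_card h1
  omega

/-- few roots different from `1` -/
theorem noCoset_of_factor {r : ℕ} (hr : 0 < r) (hrL : (r : L) ≠ 0) {f g : K[X]} {e : ℕ} (hg : g ≠ 0)
    (hf : f = (X - C 1) ^ e * g) (hcard : g.natDegree + 1 < r) : NoCoset L r f := by
  classical
  refine noCoset_of_finset hr hrL (insert 1 (g.map (algebraMap K L)).roots.toFinset) ?_ ?_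
  · intro x hx
    rw [hf, Polynomial.map_mul, Polynomial.IsRoot, Polynomial.eval_mul, mul_eq_zero] at hx
    rw [Finset.mem_insert]
    rcases hx with hx | hx
    · left
      simp only [Polynomial.map_pow, Polynomial.map_sub, Polynomial.map_X, map_one,
        Polynomial.eval_pow, Polynomial.eval_sub, Polynomial.eval_X, Polynomial.map_one, Polynomial.eval_one] at hx
      exact sub_eq_zero.mp ((pow_eq_zero_iff (by rintro rfl; simp at hx)).mp hx)
    · right
      rw [Multiset.mem_toFinset, Polynomial.mem_roots ((Polynomial.map_ne_zero_iff (algebraMap K L).injective).mpr hg)]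
      exact hx
  · refine (Finset.card_insert_le _ _).trans_lt ?_
    have h1 := Multiset.toFinset_card_le (g.map (algebraMap K L)).roots
    have h2 := Polynomial.card_roots' (g.map (algebraMap K L))
    rw [Polynomial.natDegree_map] at h2
    omega

/-- `rank (z - 1) + 1 < r` -/
theorem noCoset_of_rank {V : Type*} [AddCommGroup V] [Module K V] [FiniteDimensional K V] {r : ℕ}
    (hrL : (r : L) ≠ 0) (z : End K V) (hrank : Module.finrank K (LinearMap.range (z - 1)) + 1 < r) :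
    NoCoset L r z.charpoly := by
  have hm : z.charpoly ≠ 0 := z.charpoly_monic.ne_zero
  obtain ⟨g, hg, -⟩ := Polynomial.exists_eq_pow_rootMultiplicity_mul_and_not_dvd z.charpoly hm 1
  have hg0 : g ≠ 0 := by
    rintro rfl
    rw [mul_zero] at hg
    exact hm hg
  refine noCoset_of_factor (by omega) hrL hg0 hg ?_
  have h1 : Module.finrank K (z.eigenspace 1) ≤ z.charpoly.rootMultiplicity 1 := LinearMap.finrank_eigenspace_le z 1
  have h2 : Module.finrank K (LinearMap.range (z - 1)) + Module.finrank K (LinearMap.ker (z - 1)) =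
      Module.finrank K V := LinearMap.finrank_range_add_finrank_ker (z - 1)
  have h3 : z.eigenspace 1 = LinearMap.ker (z - 1) := by
    rw [Module.End.eigenspace_def, one_smul]
  have h4 := congrArg Polynomial.natDegree hg
  rw [LinearMap.charpoly_natDegree, Polynomial.natDegree_mul (pow_ne_zero _ (Polynomial.X_sub_C_ne_zero 1)) hg0,
    Polynomial.natDegree_pow, Polynomial.natDegree_X_sub_C, mul_one] at h4
  rw [h3] at h1
  omega

/-- `r = 3`, eigenvalues `1, l, l⁻¹` with `l ^ 3 ≠ 1` -/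
theorem noCoset_three {f : K[X]} {l : L} (hl : l ^ 3 ≠ 1) (h3 : (3 : L) ≠ 0)
    (hf : ∀ x : L, (f.map (algebraMap K L)).IsRoot x → x = 1 ∨ x = l ∨ x = l⁻¹) : NoCoset L 3 f := by
  classical
  intro c hc
  by_contra hcon
  push Not at hcon
  have : NeZero (((3 : ℕ)) : L) := ⟨by exact_mod_cast h3⟩
  have : NeZero (3 : ℕ) := ⟨by norm_num⟩
  obtain ⟨ω, hω⟩ := HasEnoughRootsOfUnity.exists_primitiveRoot L 3
  have hω3 : ω ^ 3 = 1 := hω.pow_eq_one
  -- the coset equals `{1, l, l⁻¹}`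
  have h1 : (Finset.range 3).image (fun i => c * ω ^ i) ⊆ ({1, l, l⁻¹} : Finset L) := by
    intro y hy
    obtain ⟨i, -, rfl⟩ := Finset.mem_image.mp hy
    have := hf _ (hcon _ (show (ω ^ i) ^ 3 = 1 by rw [← pow_mul, mul_comm, pow_mul, hω3, one_pow]))
    simpa using this
  have h2 : ((Finset.range 3).image (fun i => c * ω ^ i)).card = 3 := by
    rw [Finset.card_image_of_injOn, Finset.card_range]
    intro i hi j hj hij
    exact hω.pow_inj (Finset.mem_range.mp hi) (Finset.mem_range.mp hj) (mul_left_cancel₀ hc hij)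
  have h4 : (Finset.range 3).image (fun i => c * ω ^ i) = ({1, l, l⁻¹} : Finset L) :=
    Finset.eq_of_subset_of_card_le h1 (by rw [h2]; exact Finset.card_le_three)
  have h5 : ∀ y ∈ ({1, l, l⁻¹} : Finset L), y ^ 3 = c ^ 3 := by
    intro y hy
    rw [← h4] at hy
    obtain ⟨i, -, rfl⟩ := Finset.mem_image.mp hy
    rw [mul_pow, ← pow_mul, mul_comm i 3, pow_mul, hω3, one_pow, mul_one]
  have h6 := h5 1 (by simp)
  have h7 := h5 l (by simp)
  rw [one_pow] at h6
  rw [← h6] at h7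
  exact hl h7

end field

section weights

variable {k : Type*} [Field k] [IsAlgClosed k] {B : Type*} [CommGroup B] [Finite B]

variable {W : Type*} [AddCommGroup W] [Module k W]

/-- conjugation action on the endomorphisms -/
noncomputable def cj {V : Type*} [AddCommGroup V] [Module k V] (τ : B →* End k V) : B →* End k (End k V) where
  toFun b := (LinearMap.mulRight k (τ b⁻¹)).comp (LinearMap.mulLeft k (τ b))
  map_one' := by
    ext u : 1
    simp
  map_mul' b c := by
    ext u : 1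
    simp [mul_assoc]

end weights

section subgroups

variable {G : Type*} [Group G]

/-- a commutative subgroup as a `CommGroup` -/
@[reducible] def cgrp {B : Subgroup G} (hB : ∀ x ∈ B, ∀ y ∈ B, x * y = y * x) : CommGroup B :=
  { (inferInstance : Group B) with mul_comm := fun x y => Subtype.ext (hB x x.2 y y.2) }

end subgroups

end Cfsg.Agent.H750.RM
end

-- part: H571/RM/Pred
section
set_option linter.all false
open scoped Cfsg.Agent.FastGrp

/-!
# S3849: heredity of `D_π` for overgroups of Hall subgroups, definitions (helper571)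

* `Her π G` : `D_π(G)` implies `D_π(M)` for all `M` containing a Hall `π`-subgroup of `G`;
* `RowM π S` : what has to be shown for the simple groups `S`;
* `DomIn π M H` : every `π`-subgroup of `M` lies in an `M`-conjugate of `H`;
* `her_of_one` : it is enough to consider one Hall subgroup.
-/

set_option autoImplicit false

namespace Cfsg.Agent.H571.RM

open Subgroup Cfsg Cfsg.Agent.H988.CPi Cfsg.Agent.H571.DExt Cfsg.Agent.H571.RV Cfsg.Agent.Solvable.SZ
open scoped Pointwise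

/-- `D_π` is inherited by the overgroups of the Hall `π`-subgroups -/
def Her (π : Set ℕ) (G : Type*) [Group G] : Prop :=
  Dom π G → ∀ H M : Subgroup G, IsPiHall π H → H ≤ M → Dom π M

/-- the row of the simple group `S` for S3849 -/
def RowM (π : Set ℕ) (S : Type*) [Group S] : Prop :=
  (∀ L : Subgroup S, L ≠ ⊤ → Her π L) → Her π S

/-- every `π`-subgroup of `M` lies in an `M`-conjugate of `H` -/
def DomIn {G : Type*} [Group G] (π : Set ℕ) (M H : Subgroup G) : Prop :=
  ∀ K ≤ M, PiN π (Nat.card K) → ∃ m ∈ M, K ≤ MulAut.conj m • H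

variable {π : Set ℕ} {G : Type*} [Group G] [Finite G]

omit [Finite G] in
theorem hall_subgroupOf {H M : Subgroup G} (hH : IsPiHall π H) (hHM : H ≤ M) : IsPiHall π (H.subgroupOf M) := by
  refine ⟨?_, ?_⟩
  · have h1 : PiN π (Nat.card (H.subgroupOf M)) := by rw [card_subgroupOf _ _ hHM]; exact hH.1
    exact h1
  · intro p hp hpπ hd
    exact hH.2 p hp hpπ (hd.trans (relIndex_dvd_index_of_le hHM))

omit [Finite G] in
theorem DomIn.dom {H M : Subgroup G} (h : DomIn π M H) (hH : IsPiHall π H) (hHM : H ≤ M) : Dom π M := by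
  refine ⟨H.subgroupOf M, hall_subgroupOf hH hHM, fun K hK => ?_⟩
  obtain ⟨m, hm, hle⟩ := h (K.map M.subtype) (map_subtype_le K) (by
    rw [card_map_of_injective M.subtype_injective]; exact hK)
  refine ⟨⟨m, hm⟩, fun x hx => ?_⟩
  obtain ⟨y, hy, hy'⟩ := hle ⟨x, hx, rfl⟩
  have hy2 : m * y * m⁻¹ = (x : G) := hy'
  have hyM : y ∈ M := by
    have h1 : y = m⁻¹ * (x : G) * m := by rw [← hy2]; group
    rw [h1]; exact M.mul_mem (M.mul_mem (M.inv_mem hm) x.2) hm
  exact ⟨⟨y, hyM⟩, hy, Subtype.ext hy2⟩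

theorem DomIn.of_dom {H M : Subgroup G} (hH : IsPiHall π H) (hHM : H ≤ M) (h : Dom π M) : DomIn π M H := by
  intro K hKM hK
  obtain ⟨T, hT, hdom⟩ := h
  obtain ⟨g, hg⟩ := (Dom.cpi ⟨T, hT, hdom⟩).2 T (H.subgroupOf M) hT (hall_subgroupOf hH hHM)
  obtain ⟨y, hy⟩ := hdom (K.subgroupOf M) (by rw [card_subgroupOf _ _ hKM]; exact hK)
  refine ⟨(y : G) * (g : G)⁻¹, M.mul_mem y.2 (M.inv_mem g.2), fun x hx => ?_⟩
  obtain ⟨t, ht, ht'⟩ := hy (show (⟨x, hKM hx⟩ : M) ∈ K.subgroupOf M from hx)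
  have h1 : (y : G) * t * (y : G)⁻¹ = x := congrArg Subtype.val ht'
  have h2 : g * t * g⁻¹ ∈ H.subgroupOf M := by rw [hg]; exact ⟨t, ht, rfl⟩
  refine ⟨(g : G) * t * (g : G)⁻¹, h2, ?_⟩
  show ((y : G) * (g : G)⁻¹) * ((g : G) * t * (g : G)⁻¹) * ((y : G) * (g : G)⁻¹)⁻¹ = x
  rw [← h1]; group

/-- one Hall subgroup is enough -/
theorem her_of_one {H : Subgroup G} (hH : IsPiHall π H) (h : Dom π G → ∀ M : Subgroup G, H ≤ M → DomIn π M H) :
    Her π G := by
  intro hD K M hK hKM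
  obtain ⟨g, hg⟩ := hD.cpi.2 K H hK hH
  -- `H = K^g ≤ M^g`
  have hg' : H = MulAut.conj g • K := hg
  have hHM : H ≤ MulAut.conj g • M := by rw [hg']; exact smul_mono_right _ hKM
  have h1 := h hD _ hHM
  refine DomIn.dom (H := K) ?_ hK hKM
  intro T hTM hT
  obtain ⟨m, hm, hle⟩ := h1 (MulAut.conj g • T) (smul_mono_right _ hTM) (by rw [card_conj_smul]; exact hT)
  obtain ⟨m', hm', hmm⟩ := hm
  refine ⟨m', hm', fun x hx => ?_⟩
  have hmm' : g * m' * g⁻¹ = m := hmm
  obtain ⟨y, hy, hyx⟩ := hle (show g * x * g⁻¹ ∈ MulAut.conj g • T from ⟨x, hx, rfl⟩)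
  rw [hg'] at hy
  obtain ⟨k, hk, hky⟩ := hy
  have hky' : g * k * g⁻¹ = y := hky
  have hyx' : m * y * m⁻¹ = g * x * g⁻¹ := hyx
  refine ⟨k, hk, ?_⟩
  show m' * k * m'⁻¹ = x
  rw [← hky', ← hmm'] at hyx'
  have h2 : g * (m' * k * m'⁻¹) * g⁻¹ = g * x * g⁻¹ := by rw [← hyx']; group
  exact mul_left_cancel (mul_right_cancel h2)

/-- `DFw` from a dominating Hall subgroup -/
theorem dfw_mk {r : ℕ} {H A : Subgroup G} (hD : Dom π G) (hH : IsPiHall π H) (hAH : A ≤ H)
    (hn : H ≤ normalizer (A : Set G)) (hab : ∀ a ∈ A, ∀ b ∈ A, a * b = b * a) (hrA : ¬ r ∣ Nat.card A)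
    (hidx : ∀ p : ℕ, p.Prime → p ∣ A.relIndex H → p = r) : DFw π r ⊤ H A where
  le := le_top
  pi := hH.1
  ale := hAH
  nor := hn
  ab := hab
  rA := hrA
  idx := hidx
  dom := fun K _ hK => by
    obtain ⟨T, hT, hdom⟩ := hD
    obtain ⟨g, hg⟩ := (Dom.cpi ⟨T, hT, hdom⟩).2 T H hT hH
    obtain ⟨y, hy⟩ := hdom K hK
    refine ⟨y * g⁻¹, mem_top _, hy.trans ?_⟩
    have hg' : H = MulAut.conj g • T := hg
    rw [hg', ← mul_smul, ← map_mul, inv_mul_cancel_right]

end Cfsg.Agent.H571.RM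
end

-- part: H571/RM/RowC
section
prune_inst 0x35403144434000000018051210003c7696000592006b000199a00742048edf6320872f61f8a01f14131aaa65003f8040005400590018000020008a00411801a0842a62c62340b104650097c0f887180c00000000000000000000000000041004000000000
set_option linter.all false
open scoped Cfsg.Agent.FastGrp

-- part: H571/RM/Theta
section
/-!
# S3849: the weak closure argument (helper571)
-/

set_option autoImplicit false

namespace Cfsg.Agent.H571.RM

open Subgroup Cfsg Cfsg.Agent.H988.CPi Cfsg.Agent.H571.DExt Cfsg.Agent.H571.RV Cfsg.Agent.Solvable.SZ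
open scoped Pointwise

universe u

variable {π : Set ℕ} {r : ℕ} {G : Type u} [Group G] [Finite G] {H A : Subgroup G}

omit [Finite G] in
theorem mem_smul_iff' {g x : G} {K : Subgroup G} : x ∈ MulAut.conj g • K ↔ g⁻¹ * x * g ∈ K := by
  constructor
  · rintro ⟨y, hy, hyx⟩
    have h1 : g * y * g⁻¹ = x := hyx
    rw [← h1]
    have h2 : g⁻¹ * (g * y * g⁻¹) * g = y := by group
    rw [h2]; exact hy
  · intro h
    refine ⟨g⁻¹ * x * g, h, ?_⟩
    show g * (g⁻¹ * x * g) * g⁻¹ = x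
    group

omit [Finite G] in
theorem smul_le_iff' {g : G} {K L : Subgroup G} : MulAut.conj g • K ≤ L ↔ K ≤ MulAut.conj g⁻¹ • L := by
  constructor
  · intro h x hx
    rw [mem_smul_iff', inv_inv]
    exact h ⟨x, hx, rfl⟩
  · rintro h _ ⟨x, hx, rfl⟩
    have h1 := mem_smul_iff'.mp (h hx)
    rw [inv_inv] at h1
    exact h1

/-- structure of the `π`-subgroups -/
theorem split (h : DFw π r ⊤ H A) {K : Subgroup G} (hK : PiN π (Nat.card K)) :
    ∃ X ≤ K, K ≤ normalizer (X : Set G) ∧ ¬ r ∣ Nat.card X ∧ ∀ p : ℕ, p.Prime → p ∣ X.relIndex K → p = r := by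
  obtain ⟨g, -, hg⟩ := h.dom K le_top hK
  have h' := h.conj (mem_top g)
  set A' := MulAut.conj g • A with hA'
  refine ⟨K ⊓ A', inf_le_left, ?_, fun hd => h'.rA (hd.trans (card_dvd_of_le inf_le_right)), ?_⟩
  · rw [le_normalizer_iff]
    rintro k hk x ⟨hx1, hx2⟩
    exact ⟨K.mul_mem (K.mul_mem hk hx1) (K.inv_mem hk), (le_normalizer_iff.mp h'.nor) k (hg hk) x hx2⟩
  · intro p hp hd
    rw [inf_comm, inf_relIndex_right] at hd
    have hn : (A'.subgroupOf (MulAut.conj g • H)).Normal := (normal_subgroupOf_iff_le_normalizer h'.ale).mpr h'.nor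
    have h2 := relIndex_dvd_index_of_normal (A'.subgroupOf (MulAut.conj g • H)) (K.subgroupOf (MulAut.conj g • H))
    rw [relIndex_subgroupOf hg] at h2
    exact h'.idx p hp (hd.trans h2)

/-- Wielandt in `M ≥ A` -/
theorem wiel (h : DFw π r ⊤ H A) {M : Subgroup G} (hAM : A ≤ M) {X : Subgroup G} (hXM : X ≤ M)
    (hX : PiN π (Nat.card X)) (hrX : ¬ r ∣ Nat.card X) : ∃ m ∈ M, X ≤ MulAut.conj m • A := by
  have hnil : Group.IsNilpotent (A.subgroupOf M) := by
    have hcomm : ∀ a b : A.subgroupOf M, a * b = b * a := fun a b =>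
      Subtype.ext (Subtype.ext (h.ab _ a.2 _ b.2))
    let inst : CommGroup (A.subgroupOf M) := { (inferInstance : Group (A.subgroupOf M)) with mul_comm := hcomm }
    exact CommGroup.isNilpotent
  have hcop : (Nat.card (A.subgroupOf M)).Coprime (A.subgroupOf M).index := by
    rw [card_subgroupOf _ _ hAM]
    refine Nat.coprime_of_dvd fun p hp h1 h2 => ?_
    have h3 : p = r := h.idx_le hAM le_top hp (h.pi p hp (h1.trans (card_dvd_of_le h.ale))) h2
    exact h.rA (h3 ▸ h1)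
  obtain ⟨y, hy⟩ := Cfsg.Agent.S0581.result (A.subgroupOf M) (X.subgroupOf M) hnil hcop (by
    intro p hp hd
    rw [card_subgroupOf _ _ hXM] at hd
    rw [card_subgroupOf _ _ hAM]
    have h1 : p ∣ Nat.card A * A.relIndex M := by
      have h2 : Nat.card (A.subgroupOf M) * (A.subgroupOf M).index = Nat.card M := card_mul_index _
      rw [card_subgroupOf _ _ hAM] at h2
      rw [show A.relIndex M = (A.subgroupOf M).index from rfl, h2]
      exact hd.trans (card_dvd_of_le hXM)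
    rcases hp.dvd_mul.mp h1 with h2 | h2
    · exact h2
    · have h3 : p = r := h.idx_le hAM le_top hp (hX p hp hd) h2
      exact absurd (h3 ▸ hd) hrX)
  refine ⟨y, y.2, fun x hx => ?_⟩
  obtain ⟨b, hb, hb'⟩ := hy (show (⟨x, hXM hx⟩ : M) ∈ X.subgroupOf M from hx)
  exact ⟨b, hb, congrArg Subtype.val hb'⟩

/-- inside a subgroup `N`: an `r`-subgroup containing a given `r`-subgroup and a conjugate of another one -/
theorem exists_both (hr : r.Prime) {N R B : Subgroup G} (hRN : R ≤ N) (hBN : B ≤ N) (hR : IsPGroup r R)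
    (hB : IsPGroup r B) : ∃ Q ≤ N, IsPGroup r Q ∧ R ≤ Q ∧ ∃ n ∈ N, MulAut.conj n • B ≤ Q := by
  have := Fact.mk hr
  have h1 : IsPGroup r (R.subgroupOf N) := hR.comap_subtype
  have h2 : IsPGroup r (B.subgroupOf N) := hB.comap_subtype
  obtain ⟨P, hP⟩ := h1.exists_le_sylow
  obtain ⟨P', hP'⟩ := h2.exists_le_sylow
  obtain ⟨n, hn⟩ := MulAction.exists_smul_eq N P' P
  refine ⟨(P : Subgroup N).map N.subtype, map_subtype_le _, P.isPGroup'.map _, ?_, n, n.2, ?_⟩
  · intro x hx
    exact ⟨⟨x, hRN hx⟩, hP hx, rfl⟩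
  · rintro _ ⟨b, hb, rfl⟩
    refine ⟨n * ⟨b, hBN hb⟩ * n⁻¹, ?_, rfl⟩
    rw [← hn]
    exact ⟨⟨b, hBN hb⟩, hP' hb, rfl⟩

/-- a Sylow `r`-subgroup of `K` together with the normal subgroup `X` of `r`-power index generates `K` -/
theorem sup_sylow (hr : r.Prime) {K X : Subgroup G} (hXK : X ≤ K) (hKX : K ≤ normalizer (X : Set G))
    (hidx : ∀ p : ℕ, p.Prime → p ∣ X.relIndex K → p = r) : ∃ R ≤ K, IsPGroup r R ∧ X ⊔ R = K := by
  have := Fact.mk hr
  obtain ⟨P⟩ : Nonempty (Sylow r K) := inferInstance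
  refine ⟨(P : Subgroup K).map K.subtype, map_subtype_le _, P.isPGroup'.map _, ?_⟩
  have hle : X ⊔ (P : Subgroup K).map K.subtype ≤ K := sup_le hXK (map_subtype_le _)
  apply le_antisymm hle
  rw [← relIndex_eq_one]
  by_contra hne
  obtain ⟨p, hp, hd⟩ := Nat.exists_prime_and_dvd hne
  have h1 : p = r := by
    refine hidx p hp (hd.trans ?_)
    rw [← relIndex_mul_relIndex X (X ⊔ (P : Subgroup K).map K.subtype) K le_sup_left hle]
    exact Dvd.intro_left _ rfl
  have h2 : p ∣ ((P : Subgroup K).map K.subtype).relIndex K := by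
    refine hd.trans ?_
    rw [← relIndex_mul_relIndex ((P : Subgroup K).map K.subtype) (X ⊔ (P : Subgroup K).map K.subtype) K
      le_sup_right hle]
    exact Dvd.intro_left _ rfl
  have h3 : ((P : Subgroup K).map K.subtype).relIndex K = (P : Subgroup K).index := by
    rw [relIndex, subgroupOf, comap_map_eq_self_of_injective K.subtype_injective]
  rw [h3, h1] at h2
  exact P.not_dvd_index h2

end Cfsg.Agent.H571.RM
end

-- part: H571/RM/ThetaB
section
/-!
# S3849: the theorems THETA and FD (helper571)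

`A ≤ H` abelian normal of order prime to `r`, `H / A` an `r`-group, `H` a dominating Hall `π`-subgroup of `G`.

* `theta` : `B ≤ C_H(A)` an `r`-subgroup, `L` contains all `g` such that `B`, `B^g` lie in a common `r`-subgroup:
  `Dom (M ⊓ L)` implies `Dom M` for `M ≥ H`; `theta_L` : `Dom L`;
* `fd` : for `1 ≠ X ≤ A` the Hall subgroup `A` of `C_M(X)` has a number of conjugates prime to `r`: `Dom M`.
-/

set_option autoImplicit false

namespace Cfsg.Agent.H571.RM

open Subgroup Cfsg Cfsg.Agent.H988.CPi Cfsg.Agent.H571.DExt Cfsg.Agent.H571.RV Cfsg.Agent.Solvable.SZ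
open scoped Pointwise

universe u

variable {π : Set ℕ} {r : ℕ} {G : Type u} [Group G] {H A B L : Subgroup G}

/-- `L` contains every `g` such that `B` and `B^g` lie in a common `r`-subgroup -/
def Ctrl (r : ℕ) (B L : Subgroup G) : Prop :=
  ∀ g : G, ∀ Q : Subgroup G, IsPGroup r Q → B ≤ Q → MulAut.conj g • B ≤ Q → g ∈ L

theorem Ctrl.mem (hL : Ctrl r B L) (hB : IsPGroup r B) {g : G} (hg : ∀ b ∈ B, g * b * g⁻¹ ∈ B) : g ∈ L := by
  refine hL g B hB le_rfl ?_
  rintro _ ⟨b, hb, rfl⟩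
  exact hg b hb

/-- the core of the argument -/
theorem Ctrl.core (hL : Ctrl r B L) (hB : IsPGroup r B) (hBA : ∀ b ∈ B, ∀ a ∈ A, b * a = a * b) {X Q : Subgroup G}
    {n : G} (hXA : X ≤ A) (hn : n ∈ normalizer (X : Set G)) (hQ : IsPGroup r Q) (hBQ : MulAut.conj n • B ≤ Q) :
    X ⊔ Q ≤ MulAut.conj n • L := by
  refine sup_le (fun x hx => ?_) fun y hy => ?_
  · rw [mem_smul_iff']
    have hx' : n⁻¹ * x * n ∈ X := by
      have h1 := (mem_normalizer_iff.mp ((normalizer (X : Set G)).inv_mem hn) x).mp hx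
      rwa [inv_inv] at h1
    refine hL.mem hB fun b hb => ?_
    rw [← hBA b hb _ (hXA hx'), mul_inv_cancel_right]
    exact hb
  · rw [mem_smul_iff']
    refine hL _ (MulAut.conj n⁻¹ • Q) ?_ (smul_le_iff'.mp hBQ) ?_
    · exact (hQ.map _ : IsPGroup r (Q.map (MulAut.conj n⁻¹).toMonoidHom))
    · rintro _ ⟨b, hb, rfl⟩
      rw [mem_smul_iff', inv_inv]
      have h1 : n * b * n⁻¹ ∈ Q := hBQ ⟨b, hb, rfl⟩
      have h2 : n * ((MulAut.conj (n⁻¹ * y * n)) b) * n⁻¹ = y * (n * b * n⁻¹) * y⁻¹ := by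
        rw [MulAut.conj_apply]; group
      have h3 := Q.mul_mem (Q.mul_mem hy h1) (Q.inv_mem hy)
      rw [← h2] at h3
      exact h3

variable [Finite G]

/-- reduction of a `π`-subgroup `K` of `M` : after conjugation in `M`, `K = X ⊔ R`, `X ≤ A` normal, `R` an `r`-group -/
theorem reduce (h : DFw π r ⊤ H A) (hr : r.Prime) {M : Subgroup G} (hAM : A ≤ M) {K : Subgroup G} (hKM : K ≤ M)
    (hK : PiN π (Nat.card K)) : ∃ m ∈ M, ∃ X R : Subgroup G, X ≤ A ∧ IsPGroup r R ∧ R ≤ M ∧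
      R ≤ normalizer (X : Set G) ∧ MulAut.conj m • K = X ⊔ R := by
  obtain ⟨X, hXK, hKX, hrX, hidx⟩ := split h hK
  have hXπ : PiN π (Nat.card X) := hK.of_dvd (card_dvd_of_le hXK)
  obtain ⟨m, hm, hXA⟩ := wiel h hAM (hXK.trans hKM) hXπ hrX
  obtain ⟨R, hRK, hR, hsup⟩ := sup_sylow hr hXK hKX hidx
  refine ⟨m⁻¹, M.inv_mem hm, MulAut.conj m⁻¹ • X, MulAut.conj m⁻¹ • R, ?_, ?_, ?_, ?_, ?_⟩
  · rw [smul_le_iff', inv_inv]; exact hXA
  · exact (hR.map _ : IsPGroup r (R.map (MulAut.conj m⁻¹).toMonoidHom))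
  · rintro _ ⟨x, hx, rfl⟩
    exact M.mul_mem (M.mul_mem (M.inv_mem hm) (hKM (hRK hx))) (M.inv_mem (M.inv_mem hm))
  · rw [le_normalizer_iff]
    rintro _ ⟨x, hx, rfl⟩ _ ⟨y, hy, rfl⟩
    refine ⟨x * y * x⁻¹, (le_normalizer_iff.mp (hRK.trans hKX)) x hx y hy, ?_⟩
    simp
  · rw [← smul_sup, hsup]

/-- from a conjugate back -/
theorem back {M K : Subgroup G} {m : G} (hm : m ∈ M) (h : ∃ x ∈ M, MulAut.conj m • K ≤ MulAut.conj x • H) :
    ∃ x ∈ M, K ≤ MulAut.conj x • H := by
  obtain ⟨x, hx, hle⟩ := h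
  refine ⟨m⁻¹ * x, M.mul_mem (M.inv_mem hm) hx, ?_⟩
  rw [map_mul, mul_smul]
  exact smul_le_iff'.mp hle

/-- **THETA** -/
theorem theta (h : DFw π r ⊤ H A) (hr : r.Prime) (hB : IsPGroup r B) (hBH : B ≤ H)
    (hBA : ∀ b ∈ B, ∀ a ∈ A, b * a = a * b) (hL : Ctrl r B L) {M : Subgroup G} (hHM : H ≤ M)
    (hdom : DomIn π (M ⊓ L) H) : DomIn π M H := by
  intro K hKM hK
  obtain ⟨m, hm, X, R, hXA, hR, hRM, hRX, hsup⟩ := reduce h hr (h.ale.trans hHM) hKM hK
  refine back hm ?_
  have hXM : X ≤ M := hXA.trans (h.ale.trans hHM)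
  obtain ⟨Q, hQN, hQ, hRQ, n, hn, hBQ⟩ := exists_both hr (N := normalizer (X : Set G) ⊓ M) (R := R) (B := B)
    (le_inf hRX hRM) (le_inf (by
      rw [le_normalizer_iff]
      intro b hb x hx
      rw [hBA b hb x (hXA hx), mul_inv_cancel_right]
      exact hx) (hBH.trans hHM)) hR hB
  have h1 : X ⊔ Q ≤ MulAut.conj n • L := hL.core hB hBA hXA hn.1 hQ hBQ
  have h2 : MulAut.conj n⁻¹ • (X ⊔ R) ≤ M ⊓ L := by
    refine le_inf ?_ ?_
    · rw [smul_le_iff', inv_inv]
      intro x hx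
      rw [mem_smul_iff']
      exact M.mul_mem (M.mul_mem (M.inv_mem hn.2) ((sup_le hXM hRM) hx)) hn.2
    · rw [smul_le_iff', inv_inv]
      exact (sup_le_sup_left hRQ X).trans h1
  have h3 : PiN π (Nat.card (MulAut.conj n⁻¹ • (X ⊔ R) : Subgroup G)) := by
    rw [card_conj_smul, ← hsup, card_conj_smul]; exact hK
  obtain ⟨x, hx, hle⟩ := hdom _ h2 h3
  refine ⟨n * x, M.mul_mem hn.2 hx.1, ?_⟩
  rw [hsup, map_mul, mul_smul]
  rw [smul_le_iff', inv_inv] at hle
  exact hle

theorem theta_le (hB : IsPGroup r B) (hL : Ctrl r B L) (hBn : H ≤ normalizer (B : Set G)) : H ≤ L := fun x hx =>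
  hL.mem hB fun b hb => (le_normalizer_iff.mp hBn) x hx b hb

/-- **THETA**, the group `L` -/
theorem theta_L (h : DFw π r ⊤ H A) (hr : r.Prime) (hrπ : r ∈ π) (hB : IsPGroup r B) (hBH : B ≤ H)
    (hBn : H ≤ normalizer (B : Set G))
    (hBA : ∀ b ∈ B, ∀ a ∈ A, b * a = a * b) (hL : Ctrl r B L) : DomIn π L H := by
  have hHL := theta_le hB hL hBn
  intro K hKM hK
  obtain ⟨m, hm, X, R, hXA, hR, hRM, hRX, hsup⟩ := reduce h hr (h.ale.trans hHL) hKM hK
  refine back hm ?_
  have hXM : X ≤ L := hXA.trans (h.ale.trans hHL)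
  obtain ⟨Q, hQN, hQ, hRQ, n, hn, hBQ⟩ := exists_both hr (N := normalizer (X : Set G) ⊓ L) (R := R) (B := B)
    (le_inf hRX hRM) (le_inf (by
      rw [le_normalizer_iff]
      intro b hb x hx
      rw [hBA b hb x (hXA hx), mul_inv_cancel_right]
      exact hx) (hBH.trans hHL)) hR hB
  have hXπ : PiN π (Nat.card X) := h.pi.of_dvd (card_dvd_of_le (hXA.trans h.ale))
  have hQπ : PiN π (Nat.card Q) := by
    intro p hp hd
    have := Fact.mk hr
    obtain ⟨k, hk⟩ := IsPGroup.iff_card.mp hQ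
    rw [hk] at hd
    rw [(Nat.prime_dvd_prime_iff_eq hp hr).mp (hp.dvd_of_dvd_pow hd)]
    exact hrπ
  have hWπ : PiN π (Nat.card (Q ⊔ X : Subgroup G)) := piN_sup (hQN.trans inf_le_left) hQπ hXπ
  obtain ⟨g, -, hg⟩ := h.dom _ le_top hWπ
  refine ⟨g, ?_, ?_⟩
  · -- `B^n` and `B^g` in a common `r`-subgroup
    have hBg : MulAut.conj g • H ≤ normalizer ((MulAut.conj g • B : Subgroup G) : Set G) := by
      rw [le_normalizer_iff]
      rintro _ ⟨x, hx, rfl⟩ _ ⟨b, hb, rfl⟩
      refine ⟨x * b * x⁻¹, (le_normalizer_iff.mp hBn) x hx b hb, ?_⟩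
      simp
    have hBgr : IsPGroup r (MulAut.conj g • B : Subgroup G) :=
      (hB.map _ : IsPGroup r (B.map (MulAut.conj g).toMonoidHom))
    have hBnr : IsPGroup r (MulAut.conj n • B : Subgroup G) :=
      (hB.map _ : IsPGroup r (B.map (MulAut.conj n).toMonoidHom))
    have hle : MulAut.conj n • B ≤ normalizer ((MulAut.conj g • B : Subgroup G) : Set G) :=
      (hBQ.trans (le_sup_left.trans hg)).trans hBg
    have hP : IsPGroup r (MulAut.conj n • B ⊔ MulAut.conj g • B : Subgroup G) :=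
      IsPGroup.to_sup_of_normal_right' hBnr hBgr hle
    have h1 : n⁻¹ * g ∈ L := by
      refine hL _ (MulAut.conj n⁻¹ • (MulAut.conj n • B ⊔ MulAut.conj g • B)) ?_ ?_ ?_
      · exact (hP.map _ : IsPGroup r ((MulAut.conj n • B ⊔ MulAut.conj g • B : Subgroup G).map
          (MulAut.conj n⁻¹).toMonoidHom))
      · rw [← smul_le_iff']
        exact le_sup_left
      · rw [map_mul, mul_smul]
        exact smul_mono_right _ le_sup_right
    have h2 := L.mul_mem hn.2 h1
    rwa [mul_inv_cancel_left] at h2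
  · rw [hsup]
    exact (sup_le le_sup_right (hRQ.trans le_sup_left)).trans hg

end Cfsg.Agent.H571.RM
end

-- part: H571/RM/Fd
section
/-!
# S3849: the criterion FD (helper571)

`fd` : if for `1 ≠ X ≤ A` the number of conjugates of `A` in `C_M(X)` is prime to `r`, then `Dom M`.
-/

set_option autoImplicit false

namespace Cfsg.Agent.H571.RM

open Subgroup Cfsg Cfsg.Agent.H988.CPi Cfsg.Agent.H571.DExt Cfsg.Agent.H571.RV Cfsg.Agent.Solvable.SZ
open scoped Pointwise

universe u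

variable {π : Set ℕ} {r : ℕ} {G : Type u} [Group G] [Finite G] {H A B L : Subgroup G}

/-- an `r`-subgroup lies in a conjugate of a subgroup of index prime to `r` -/
theorem exists_conj_le (hr : r.Prime) {N T R : Subgroup G} (hRN : R ≤ N) (hR : IsPGroup r R)
    (hidx : ¬ r ∣ T.relIndex N) : ∃ n ∈ N, MulAut.conj n • R ≤ T := by
  have := Fact.mk hr
  have hR' : IsPGroup r (R.subgroupOf N) := hR.comap_subtype
  obtain ⟨x, hx⟩ := hR'.nonempty_fixed_point_of_prime_not_dvd_card (N ⧸ T.subgroupOf N) hidx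
  obtain ⟨n, rfl⟩ := QuotientGroup.mk_surjective x
  refine ⟨(n : G)⁻¹, N.inv_mem n.2, ?_⟩
  rintro _ ⟨y, hy, rfl⟩
  have h1 := hx ⟨⟨y, hRN hy⟩, hy⟩
  have h2 : (QuotientGroup.mk (⟨y, hRN hy⟩ * n) : N ⧸ T.subgroupOf N) = QuotientGroup.mk n := h1
  rw [QuotientGroup.eq] at h2
  have h3 : (((⟨y, hRN hy⟩ * n : N)⁻¹ * n : N) : G) ∈ T := h2
  have h4 := T.inv_mem h3
  have h5 : ((((⟨y, hRN hy⟩ * n : N)⁻¹ * n : N) : G))⁻¹ = (n : G)⁻¹ * y * (n : G)⁻¹⁻¹ := by
    push_cast; group
  rw [h5] at h4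
  exact h4

/-- `H` dominates in `N_M(A)` -/
theorem domIn_norm (h : DFw π r ⊤ H A) (hr : r.Prime) {M : Subgroup G} (hHM : H ≤ M) :
    DomIn π (normalizer (A : Set G) ⊓ M) H := by
  have hHN : H ≤ normalizer (A : Set G) ⊓ M := le_inf h.nor hHM
  obtain ⟨H', hH'N, -, hH'π, -, hdom⟩ := h.norm_aux hr (N := normalizer (A : Set G) ⊓ M)
    (h.ale.trans hHN) le_top inf_le_left
  intro K hK hKπ
  obtain ⟨n, hn, hle⟩ := hdom K hK hKπ
  obtain ⟨n', hn', hle'⟩ := hdom H hHN h.pi
  have hc : Nat.card H' ≤ Nat.card H := by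
    obtain ⟨g, -, hg⟩ := h.dom H' le_top hH'π
    calc Nat.card H' ≤ Nat.card (MulAut.conj g • H : Subgroup G) := card_le_of_le hg
      _ = Nat.card H := card_conj_smul _ _
  have heq : H = MulAut.conj n' • H' := eq_of_le_of_card_ge hle' (by rw [card_conj_smul]; exact hc)
  refine ⟨n * n'⁻¹, (normalizer (A : Set G) ⊓ M).mul_mem hn ((normalizer (A : Set G) ⊓ M).inv_mem hn'), ?_⟩
  rw [heq, ← mul_smul, ← map_mul, inv_mul_cancel_right]
  exact hle

/-- `X ⊔ R`, `R` normalised into `N(A)` -/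
theorem fin_aux (h : DFw π r ⊤ H A) (hr : r.Prime) {M X R : Subgroup G} (hHM : H ≤ M) (hXA : X ≤ A)
    (hRM : R ≤ M) {n : G} (hnX : n ∈ normalizer (X : Set G)) (hnM : n ∈ M)
    (hle : MulAut.conj n • R ≤ normalizer (A : Set G)) (hπ : PiN π (Nat.card (X ⊔ R : Subgroup G))) :
    ∃ x ∈ M, X ⊔ R ≤ MulAut.conj x • H := by
  refine back hnM ?_
  have hXn : MulAut.conj n • X ≤ X := by
    rintro _ ⟨x, hx, rfl⟩
    exact (mem_normalizer_iff.mp hnX x).mp hx
  have h1 : MulAut.conj n • (X ⊔ R) ≤ normalizer (A : Set G) ⊓ M := by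
    rw [smul_sup]
    refine sup_le (hXn.trans (le_inf ((hXA.trans h.ale).trans h.nor) ((hXA.trans h.ale).trans hHM)))
      (le_inf hle ?_)
    rintro _ ⟨x, hx, rfl⟩
    exact M.mul_mem (M.mul_mem hnM (hRM hx)) (M.inv_mem hnM)
  obtain ⟨x, hx, hx2⟩ := domIn_norm h hr hHM _ h1 (by rw [card_conj_smul]; exact hπ)
  exact ⟨x, hx.2, hx2⟩

/-- Frattini: `N_M(X) = C_M(X) N(A)` for `X ≤ A` -/
theorem frat (h : DFw π r ⊤ H A) {M X : Subgroup G} (hAM : A ≤ M) (hXA : X ≤ A) {n : G}
    (hn : n ∈ normalizer (X : Set G) ⊓ M) :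
    ∃ c ∈ centralizer (X : Set G) ⊓ M, c⁻¹ * n ∈ normalizer (A : Set G) := by
  have hAC : A ≤ centralizer (X : Set G) ⊓ M := by
    refine le_inf (fun a ha => ?_) hAM
    rw [mem_centralizer_iff]
    intro x hx
    exact h.ab x (hXA hx) a ha
  have hAn : MulAut.conj n • A ≤ centralizer (X : Set G) ⊓ M := by
    rintro _ ⟨a, ha, rfl⟩
    refine ⟨?_, M.mul_mem (M.mul_mem hn.2 (hAM ha)) (M.inv_mem hn.2)⟩
    show n * a * n⁻¹ ∈ centralizer (X : Set G)
    rw [mem_centralizer_iff]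
    intro x hx
    have h1 : n⁻¹ * x * n ∈ X := by
      have h1 := (mem_normalizer_iff.mp ((normalizer (X : Set G)).inv_mem hn.1) x).mp hx
      rwa [inv_inv] at h1
    have h2 := h.ab _ (hXA h1) a ha
    have h3 : x * (n * a * n⁻¹) = n * ((n⁻¹ * x * n) * a) * n⁻¹ := by group
    rw [h3, h2]; group
  obtain ⟨c, hc, hle⟩ := wiel h hAC hAn
    (by rw [card_conj_smul]; exact h.pi.of_dvd (card_dvd_of_le h.ale)) (by rw [card_conj_smul]; exact h.rA)
  refine ⟨c, hc, ?_⟩
  have heq : MulAut.conj n • A = MulAut.conj c • A := eq_of_le_of_card_ge hle (by rw [card_conj_smul, card_conj_smul])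
  have h5 : MulAut.conj (c⁻¹ * n) • A = A := by
    rw [map_mul, mul_smul, heq, ← mul_smul, ← map_mul, inv_mul_cancel, map_one, one_smul]
  rw [mem_normalizer_iff]
  intro a
  constructor
  · intro ha
    have h6 : (c⁻¹ * n) * a * (c⁻¹ * n)⁻¹ ∈ MulAut.conj (c⁻¹ * n) • A := ⟨a, ha, rfl⟩
    rwa [h5] at h6
  · intro ha
    have h6 : (c⁻¹ * n) * a * (c⁻¹ * n)⁻¹ ∈ MulAut.conj (c⁻¹ * n) • A := by rw [h5]; exact ha
    rw [mem_smul_iff'] at h6
    have h7 : (c⁻¹ * n)⁻¹ * ((c⁻¹ * n) * a * (c⁻¹ * n)⁻¹) * (c⁻¹ * n) = a := by group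
    rwa [h7] at h6

/-- the index of `N(A)` in `N_M(X)` divides the one in `C_M(X)` -/
theorem frat_relIndex (h : DFw π r ⊤ H A) {M X : Subgroup G} (hAM : A ≤ M) (hXA : X ≤ A) :
    (normalizer (A : Set G)).relIndex (normalizer (X : Set G) ⊓ M) =
      (normalizer (A : Set G)).relIndex (centralizer (X : Set G) ⊓ M) := by
  set N := normalizer (X : Set G) ⊓ M with hN
  set C := centralizer (X : Set G) ⊓ M with hC
  have hCN : C ≤ N := inf_le_inf_right _ (centralizer_le_normalizer _)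
  have hn : (C.subgroupOf N).Normal := by
    rw [normal_subgroupOf_iff_le_normalizer hCN, le_normalizer_iff]
    rintro n hn c hc
    refine ⟨?_, M.mul_mem (M.mul_mem hn.2 hc.2) (M.inv_mem hn.2)⟩
    show n * c * n⁻¹ ∈ centralizer (X : Set G)
    rw [mem_centralizer_iff]
    intro x hx
    have h1 : n⁻¹ * x * n ∈ X := by
      have h1 := (mem_normalizer_iff.mp ((normalizer (X : Set G)).inv_mem hn.1) x).mp hx
      rwa [inv_inv] at h1
    have h2 := mem_centralizer_iff.mp hc.1 _ h1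
    have h3 : x * (n * c * n⁻¹) = n * ((n⁻¹ * x * n) * c) * n⁻¹ := by group
    rw [h3, h2]; group
  have htop : (normalizer (A : Set G)).subgroupOf N ⊔ C.subgroupOf N = ⊤ := by
    rw [eq_top_iff]
    intro n _
    obtain ⟨c, hc, hcn⟩ := frat h hAM hXA n.2
    have h1 : n = ⟨c, hCN hc⟩ * (⟨c, hCN hc⟩⁻¹ * n) := by group
    rw [h1]
    exact Subgroup.mul_mem _ (mem_sup_right (show c ∈ C from hc))
      (mem_sup_left (show c⁻¹ * (n : G) ∈ normalizer (A : Set G) from hcn))
  have h1 := relIndex_sup' ((normalizer (A : Set G)).subgroupOf N) (C.subgroupOf N)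
  rw [htop, relIndex_top_right] at h1
  rw [relIndex, h1, relIndex_subgroupOf hCN]

/-- **FD** -/
theorem fd (h : DFw π r ⊤ H A) (hr : r.Prime) {M : Subgroup G} (hHM : H ≤ M)
    (hfd : ∀ X ≤ A, X ≠ ⊥ → ¬ r ∣ (normalizer (A : Set G)).relIndex (centralizer (X : Set G) ⊓ M)) :
    DomIn π M H := by
  have hAM := h.ale.trans hHM
  intro K hKM hK
  obtain ⟨m, hm, X, R, hXA, hR, hRM, hRX, hsup⟩ := reduce h hr hAM hKM hK
  refine back hm ?_
  rw [hsup]
  have hπ : PiN π (Nat.card (X ⊔ R : Subgroup G)) := by rw [← hsup, card_conj_smul]; exact hK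
  by_cases hrπ : r ∈ π
  · have hidx : ¬ r ∣ (normalizer (A : Set G)).relIndex (normalizer (X : Set G) ⊓ M) := by
      rw [frat_relIndex h hAM hXA]
      by_cases hX : X = ⊥
      · intro hd
        have h1 : (normalizer (A : Set G)).relIndex (centralizer (X : Set G) ⊓ M) ∣ H.relIndex ⊤ := by
          have h2 : centralizer (X : Set G) ⊓ M = M := by
            rw [inf_eq_right, hX]
            intro x _
            rw [mem_centralizer_iff]
            intro y hy
            rw [coe_bot, Set.mem_singleton_iff] at hy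
            rw [hy, one_mul, mul_one]
          rw [h2]
          refine (relIndex_dvd_of_le_left M h.nor).trans ?_
          rw [relIndex_top_right]
          exact relIndex_dvd_index_of_le hHM
        exact h.hall r hr hrπ (hd.trans h1)
      · exact hfd X hXA hX
    obtain ⟨n, hn, hle⟩ := exists_conj_le hr (N := normalizer (X : Set G) ⊓ M) (le_inf hRX hRM) hR hidx
    exact fin_aux h hr hHM hXA hRM hn.1 hn.2 hle hπ
  · have hR1 : R = ⊥ := by
      rw [← card_eq_one]
      by_contra hne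
      obtain ⟨p, hp, hd⟩ := Nat.exists_prime_and_dvd hne
      have := Fact.mk hr
      obtain ⟨k, hk⟩ := IsPGroup.iff_card.mp hR
      have h1 : p = r := (Nat.prime_dvd_prime_iff_eq hp hr).mp (hp.dvd_of_dvd_pow (hk ▸ hd))
      exact hrπ (h1 ▸ hπ p hp (hd.trans (card_dvd_of_le le_sup_right)))
    refine ⟨1, M.one_mem, ?_⟩
    rw [hR1, sup_bot_eq, map_one, one_smul]
    exact hXA.trans h.ale

/-- **FD**, form with `C_H(X)` -/
theorem fd_cent (h : DFw π r ⊤ H A) (hr : r.Prime) {M : Subgroup G} (hHM : H ≤ M)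
    (hfd : ∀ X ≤ A, X ≠ ⊥ → ¬ r ∣ H.relIndex (centralizer (X : Set G))) : DomIn π M H := by
  refine fd h hr hHM fun X hXA hX hd => hfd X hXA hX ?_
  have h1 : (normalizer (A : Set G)).relIndex (centralizer (X : Set G) ⊓ M) ∣
      H.relIndex (centralizer (X : Set G) ⊓ M) := relIndex_dvd_of_le_left _ h.nor
  refine (hd.trans h1).trans ?_
  have h2 : H ⊓ centralizer (X : Set G) ≤ centralizer (X : Set G) ⊓ M := le_inf inf_le_right (inf_le_left.trans hHM)
  have h3 : H.relIndex (centralizer (X : Set G) ⊓ M) = (H ⊓ centralizer (X : Set G)).relIndex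
      (centralizer (X : Set G) ⊓ M) := by
    rw [← inf_relIndex_right H (centralizer (X : Set G) ⊓ M)]
    congr 1
    exact le_antisymm (le_inf inf_le_left (inf_le_right.trans inf_le_left)) (le_inf inf_le_left h2)
  have h4 : H.relIndex (centralizer (X : Set G)) = (H ⊓ centralizer (X : Set G)).relIndex
      (centralizer (X : Set G)) := (inf_relIndex_right _ _).symm
  rw [h3, h4, ← relIndex_mul_relIndex _ _ _ h2 inf_le_left]
  exact Dvd.intro _ rfl

/-- **FD**, form `C_G(X) ≤ N_G(A)` -/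
theorem fd_norm (h : DFw π r ⊤ H A) (hr : r.Prime) {M : Subgroup G} (hHM : H ≤ M)
    (hfd : ∀ X ≤ A, X ≠ ⊥ → centralizer (X : Set G) ≤ normalizer (A : Set G)) : DomIn π M H := by
  refine fd h hr hHM fun X hXA hX hd => ?_
  have h1 : (normalizer (A : Set G)).relIndex (centralizer (X : Set G) ⊓ M) = 1 :=
    relIndex_eq_one.mpr (inf_le_left.trans (hfd X hXA hX))
  rw [h1] at hd
  exact hr.one_lt.ne' (Nat.dvd_one.mp hd)

end Cfsg.Agent.H571.RM
end

-- part: H571/RM/Rows
section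
/-!
# S3849: sufficient conditions for `RowM π S` (helper571)

`HA π r H A` : `H` a Hall `π`-subgroup, `A` a normal abelian subgroup of `H` of order prime to `r`, `H / A` an `r`-group.

* `rowM_of_L` (THETA), `rowM_of_wc` (`B ≤ C_H(A)` weakly closed), `rowM_of_z` (a single element `z`);
* `rowM_of_fd`, `rowM_of_cent`, `rowM_of_prime`, `rowM_of_fdM` (criterion FD);
* `her_of_nilpotent`, `her_of_onePrime`, `her_of_piGrp`.
-/

set_option autoImplicit false

namespace Cfsg.Agent.H571.RM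

open Subgroup Cfsg Cfsg.Agent.H988.CPi Cfsg.Agent.H571.DExt Cfsg.Agent.H571.RV Cfsg.Agent.Solvable.SZ
open scoped Pointwise

universe u

variable {π : Set ℕ} {r : ℕ} {S : Type u} [Group S] {H A B L : Subgroup S}

/-- the data of `FHall` -/
structure HA (π : Set ℕ) (r : ℕ) (H A : Subgroup S) : Prop where
  hr : r.Prime
  hall : IsPiHall π H
  ale : A ≤ H
  nor : H ≤ normalizer (A : Set S)
  ab : ∀ a ∈ A, ∀ b ∈ A, a * b = b * a
  rA : ¬ r ∣ Nat.card A
  idx : ∀ p : ℕ, p.Prime → p ∣ A.relIndex H → p = r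

theorem FHall.exists_HA (h : FHall π S) : ∃ r : ℕ, ∃ H A : Subgroup S, HA π r H A := by
  obtain ⟨r, hr, H, A, hH, hAH, hN, hab, hrA, hp⟩ := h
  exact ⟨r, H, A, hr, hH, hAH, hN, hab, hrA, hp⟩

variable [Finite S]

theorem HA.dfw (d : HA π r H A) (hD : Dom π S) : DFw π r ⊤ H A :=
  dfw_mk hD d.hall d.ale d.nor d.ab d.rA d.idx

theorem rowM_of_fd (d : HA π r H A)
    (hfd : Dom π S → ∀ X ≤ A, X ≠ ⊥ → ¬ r ∣ H.relIndex (centralizer (X : Set S))) : RowM π S := by
  intro _
  exact her_of_one d.hall fun hD M hHM => fd_cent (d.dfw hD) d.hr hHM (hfd hD)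

theorem rowM_of_cent (d : HA π r H A)
    (hfd : Dom π S → ∀ X ≤ A, X ≠ ⊥ → centralizer (X : Set S) ≤ normalizer (A : Set S)) : RowM π S := by
  intro _
  exact her_of_one d.hall fun hD M hHM => fd_norm (d.dfw hD) d.hr hHM (hfd hD)

/-- **THETA** -/
theorem rowM_of_L (d : HA π r H A) (hrπ : r ∈ π) (hB : IsPGroup r B) (hBH : B ≤ H)
    (hBn : H ≤ normalizer (B : Set S)) (hBA : ∀ b ∈ B, ∀ a ∈ A, b * a = a * b) (hL : Ctrl r B L) (hLt : L ≠ ⊤) :
    RowM π S := by
  intro hsm
  refine her_of_one d.hall fun hD M hHM => ?_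
  have h := d.dfw hD
  have hHL := theta_le hB hL hBn
  refine theta h d.hr hB hBH hBA hL hHM ?_
  have hDL : Dom π L := (theta_L h d.hr hrπ hB hBH hBn hBA hL).dom d.hall hHL
  have h1 : Dom π ((M ⊓ L).subgroupOf L) := hsm L hLt hDL (H.subgroupOf L) ((M ⊓ L).subgroupOf L)
    (hall_subgroupOf d.hall hHL) (by
      intro x hx
      exact ⟨hHM hx, x.2⟩)
  have h2 : DomIn π ((M ⊓ L).subgroupOf L) (H.subgroupOf L) :=
    DomIn.of_dom (hall_subgroupOf d.hall hHL) (by
      intro x hx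
      exact ⟨hHM hx, x.2⟩) h1
  intro K hK hKπ
  have hKL : K ≤ L := hK.trans inf_le_right
  obtain ⟨m, hm, hle⟩ := h2 (K.subgroupOf L) (fun x hx => hK hx) (by rw [card_subgroupOf _ _ hKL]; exact hKπ)
  refine ⟨m, hm, fun x hx => ?_⟩
  obtain ⟨y, hy, hyx⟩ := hle (show (⟨x, hKL hx⟩ : L) ∈ K.subgroupOf L from hx)
  exact ⟨y, hy, congrArg Subtype.val hyx⟩

theorem not_pgroup [IsSimpleGroup S] (hna : ∃ a b : S, a * b ≠ b * a) (hr : r.Prime) :
    ¬ IsPGroup r (⊤ : Subgroup S) := by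
  intro h
  have := Fact.mk hr
  have h1 : IsPGroup r S := h.of_equiv Subgroup.topEquiv
  have h2 := h1.center_nontrivial
  have h3 : Subgroup.center S ≠ ⊥ := (Subgroup.nontrivial_iff_ne_bot _).mp h2
  have h4 : Subgroup.center S = ⊤ := (IsSimpleGroup.eq_bot_or_eq_top_of_normal _ inferInstance).resolve_left h3
  obtain ⟨a, b, hab⟩ := hna
  have h5 : b ∈ Subgroup.center S := by rw [h4]; exact mem_top b
  exact hab (Subgroup.mem_center_iff.mp h5 a)

/-- a nontrivial weakly closed `r`-subgroup `B ≤ C_H(A)` -/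
theorem rowM_of_wc [IsSimpleGroup S] (hna : ∃ a b : S, a * b ≠ b * a) (d : HA π r H A) (hrπ : r ∈ π)
    (hB : IsPGroup r B) (hB1 : B ≠ ⊥) (hBH : B ≤ H) (hBn : H ≤ normalizer (B : Set S))
    (hBA : ∀ b ∈ B, ∀ a ∈ A, b * a = a * b)
    (hwc : Dom π S → ∀ g : S, ∀ Q : Subgroup S, IsPGroup r Q → B ≤ Q → MulAut.conj g • B ≤ Q → MulAut.conj g • B = B) :
    RowM π S := by
  intro hsm hD
  refine rowM_of_L (L := normalizer (B : Set S)) d hrπ hB hBH hBn hBA ?_ ?_ hsm hD
  · intro g Q hQ h1 h2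
    have h3 := hwc hD g Q hQ h1 h2
    rw [mem_normalizer_iff]
    intro b
    constructor
    · intro hb
      have h4 : g * b * g⁻¹ ∈ MulAut.conj g • B := ⟨b, hb, rfl⟩
      rwa [h3] at h4
    · intro hb
      have h4 : g * b * g⁻¹ ∈ MulAut.conj g • B := by rw [h3]; exact hb
      rw [mem_smul_iff'] at h4
      have h5 : g⁻¹ * (g * b * g⁻¹) * g = b := by group
      rwa [h5] at h4
  · intro htop
    have hn : B.Normal := normalizer_eq_top_iff.mp htop
    rcases IsSimpleGroup.eq_bot_or_eq_top_of_normal B hn with h | h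
    · exact hB1 h
    · rw [h] at hB
      exact not_pgroup hna d.hr hB

end Cfsg.Agent.H571.RM
end

-- part: H571/RM/RowZ
section
/-!
# S3849: `RowM` from a single element (helper571)

`rowM_of_z` : `z ≠ 1` an `r`-element all of whose conjugates in `H` centralise `A`.
-/

set_option autoImplicit false

namespace Cfsg.Agent.H571.RM

open Subgroup Cfsg Cfsg.Agent.H988.CPi Cfsg.Agent.H571.DExt Cfsg.Agent.H571.RV Cfsg.Agent.Solvable.SZ
open scoped Pointwise

universe u

variable {π : Set ℕ} {r : ℕ} {S : Type u} [Group S] {H A : Subgroup S}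

/-- the subgroup generated by the conjugates of `z` in `H` -/
def cz (H : Subgroup S) (z : S) : Subgroup S := closure {y | y ∈ H ∧ ∃ g : S, g * z * g⁻¹ = y}

theorem cz_le (z : S) : cz H z ≤ H := by
  rw [cz, closure_le]
  exact fun y hy => hy.1

theorem cz_smul (z x : S) : cz (MulAut.conj x • H) z = MulAut.conj x • cz H z := by
  have h1 : {y | y ∈ MulAut.conj x • H ∧ ∃ g : S, g * z * g⁻¹ = y} =
      (fun y => x * y * x⁻¹) '' {y | y ∈ H ∧ ∃ g : S, g * z * g⁻¹ = y} := by
    ext y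
    constructor
    · rintro ⟨hy, g, rfl⟩
      refine ⟨x⁻¹ * (g * z * g⁻¹) * x, ⟨mem_smul_iff'.mp hy, x⁻¹ * g, by group⟩, ?_⟩
      show x * (x⁻¹ * (g * z * g⁻¹) * x) * x⁻¹ = g * z * g⁻¹
      group
    · rintro ⟨y', ⟨hy', g, rfl⟩, rfl⟩
      refine ⟨⟨_, hy', rfl⟩, x * g, ?_⟩
      show x * g * z * (x * g)⁻¹ = x * (g * z * g⁻¹) * x⁻¹
      group
  rw [cz, h1]
  have h2 := MonoidHom.map_closure (MulAut.conj x).toMonoidHom {y | y ∈ H ∧ ∃ g : S, g * z * g⁻¹ = y}
  exact h2.symm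

theorem le_normalizer_cz (z : S) : H ≤ normalizer (cz H z : Set S) := by
  have h1 : ∀ x ∈ H, MulAut.conj x • cz H z = cz H z := by
    intro x hx
    rw [← cz_smul]
    congr 1
    ext y
    rw [mem_smul_iff']
    constructor
    · intro hy
      have h2 := H.mul_mem (H.mul_mem hx hy) (H.inv_mem hx)
      have h3 : x * (x⁻¹ * y * x) * x⁻¹ = y := by group
      rwa [h3] at h2
    · intro hy
      exact H.mul_mem (H.mul_mem (H.inv_mem hx) hy) hx
  rw [le_normalizer_iff]
  intro x hx b hb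
  rw [← h1 x hx]
  exact ⟨b, hb, rfl⟩

/-- the normal Sylow `r`-subgroup of `C_H(A)` -/
theorem HA.exists_core [Finite S] (d : HA π r H A) : ∃ R : Subgroup S, IsPGroup r R ∧ R ≤ H ∧
    (∀ b ∈ R, ∀ a ∈ A, b * a = a * b) ∧
    ∀ y ∈ H, (∃ k, y ^ r ^ k = 1) → (∀ a ∈ A, y * a = a * y) → y ∈ R := by
  have := Fact.mk d.hr
  set C := H ⊓ centralizer (A : Set S) with hC
  have hAC : A ≤ C := le_inf d.ale (fun a ha => by
    rw [mem_centralizer_iff]
    intro x hx
    exact d.ab x hx a ha)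
  have hCA : C ≤ normalizer (A : Set S) := inf_le_left.trans d.nor
  have hidx : ∀ p : ℕ, p.Prime → p ∣ A.relIndex C → p = r := fun p hp hd => d.idx p hp (hd.trans (by
    rw [← relIndex_mul_relIndex A C H hAC inf_le_left]
    exact Dvd.intro _ rfl))
  obtain ⟨R, hRC, hR, hsup⟩ := sup_sylow d.hr hAC hCA hidx
  have hRA : ∀ b ∈ R, ∀ a ∈ A, b * a = a * b := fun b hb a ha =>
    (mem_centralizer_iff.mp (hRC hb).2 a ha).symm
  refine ⟨R, hR, hRC.trans inf_le_left, hRA, fun y hy ⟨k, hk⟩ hya => ?_⟩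
  have hyC : y ∈ C := ⟨hy, by
    show y ∈ centralizer (A : Set S)
    rw [mem_centralizer_iff]
    intro a ha
    exact (hya a ha).symm⟩
  -- `R` is normal in `C`
  have hRn : C ≤ normalizer (R : Set S) := by
    rw [← hsup]
    refine sup_le ?_ le_normalizer
    rw [le_normalizer_iff]
    intro a ha b hb
    rw [← hRA b hb a ha, mul_inv_cancel_right]
    exact hb
  -- `⟨y⟩` is an `r`-group
  have hyr : IsPGroup r (zpowers y) := by
    rintro ⟨x, m, rfl⟩
    refine ⟨k, Subtype.ext ?_⟩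
    show (y ^ m) ^ r ^ k = 1
    rw [← zpow_natCast, ← zpow_mul, mul_comm, zpow_mul, zpow_natCast, hk, one_zpow]
  have hyle : zpowers y ≤ normalizer (R : Set S) := by
    rw [zpowers_le]; exact hRn hyC
  have hP : IsPGroup r (zpowers y ⊔ R : Subgroup S) := IsPGroup.to_sup_of_normal_right' hyr hR hyle
  have hle : zpowers y ⊔ R ≤ C := sup_le (by rw [zpowers_le]; exact hyC) hRC
  -- index
  have h1 : R.relIndex (zpowers y ⊔ R) = 1 := by
    by_contra hne
    obtain ⟨p, hp, hd⟩ := Nat.exists_prime_and_dvd hne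
    have h2 : p = r := by
      obtain ⟨j, hj⟩ := IsPGroup.iff_card.mp hP
      have h3 : p ∣ Nat.card (zpowers y ⊔ R : Subgroup S) := by
        rw [← relIndex_bot_left, ← relIndex_mul_relIndex ⊥ R _ bot_le le_sup_right]
        exact hd.trans (Dvd.intro_left _ rfl)
      rw [hj] at h3
      exact (Nat.prime_dvd_prime_iff_eq hp d.hr).mp (hp.dvd_of_dvd_pow h3)
    have h4 : r ∣ R.relIndex C := by
      rw [← relIndex_mul_relIndex R _ C le_sup_right hle, ← h2]
      exact hd.trans (Dvd.intro _ rfl)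
    -- `R.relIndex C` divides `|A|`
    have h5 : R.relIndex C ∣ Nat.card A := by
      have h6 : R.relIndex C = R.relIndex A := by
        have hn : (R.subgroupOf C).Normal := (normal_subgroupOf_iff_le_normalizer hRC).mpr hRn
        have h10 : A.subgroupOf C ⊔ R.subgroupOf C = ⊤ := by
          rw [← subgroupOf_sup hAC hRC, hsup, subgroupOf_self]
        have h11 := relIndex_sup_right (H := A.subgroupOf C) (K := R.subgroupOf C)
        rw [h10, relIndex_top_right] at h11
        rw [relIndex, h11, relIndex_subgroupOf hAC]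
      rw [h6]
      exact relIndex_dvd_card R A
    exact d.rA (h4.trans h5)
  exact relIndex_eq_one.mp h1 (mem_sup_left (mem_zpowers y))

end Cfsg.Agent.H571.RM
end

-- part: H571/RM/RowZB
section
/-!
# S3849: `rowM_of_z` (helper571)

* `rowM_of_z` : `z ≠ 1` an `r`-element all of whose conjugates in `H` centralise `A`: `RowM π S`;
* `HA.map` : the data `HA` under a surjective homomorphism; `cen_of_cover` : the condition on `z` may be checked in a
  central extension `X` of `S`.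
-/

set_option autoImplicit false

namespace Cfsg.Agent.H571.RM

open Subgroup Cfsg Cfsg.Agent.H988.CPi Cfsg.Agent.H571.DExt Cfsg.Agent.H571.RV Cfsg.Agent.Solvable.SZ
open scoped Pointwise

universe u

variable {π : Set ℕ} {r : ℕ} {S : Type u} [Group S] {H A : Subgroup S}

theorem piN_of_pgroup [Finite S] (hr : r.Prime) (hrπ : r ∈ π) {Q : Subgroup S} (hQ : IsPGroup r Q) :
    PiN π (Nat.card Q) := by
  intro p hp hd
  have := Fact.mk hr
  obtain ⟨k, hk⟩ := IsPGroup.iff_card.mp hQ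
  rw [hk] at hd
  rw [(Nat.prime_dvd_prime_iff_eq hp hr).mp (hp.dvd_of_dvd_pow hd)]
  exact hrπ

theorem isPGroup_zpowers {y : S} {k : ℕ} (hk : y ^ r ^ k = 1) : IsPGroup r (zpowers y) := by
  rintro ⟨x, m, rfl⟩
  refine ⟨k, Subtype.ext ?_⟩
  show (y ^ m) ^ r ^ k = 1
  rw [← zpow_natCast, ← zpow_mul, mul_comm, zpow_mul, zpow_natCast, hk, one_zpow]

variable [Finite S]

/-- **a single element** `z` -/
theorem rowM_of_z [IsSimpleGroup S] (hna : ∃ a b : S, a * b ≠ b * a) (d : HA π r H A) (hrπ : r ∈ π) {z : S}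
    (hz : z ≠ 1) (hzr : ∃ k, z ^ r ^ k = 1)
    (hcen : Dom π S → ∀ g : S, g * z * g⁻¹ ∈ H → ∀ a ∈ A, (g * z * g⁻¹) * a = a * (g * z * g⁻¹)) : RowM π S := by
  intro hsm hD
  obtain ⟨k, hk⟩ := hzr
  obtain ⟨R, hR, hRH, hRA, hRmem⟩ := d.exists_core
  have hBR : cz H z ≤ R := by
    rw [cz, closure_le]
    rintro _ ⟨hy, g, rfl⟩
    refine hRmem _ hy ⟨k, ?_⟩ (hcen hD g hy)
    rw [conj_pow, hk, mul_one, mul_inv_cancel]
  have hdom := (d.dfw hD).dom
  -- an `r`-group containing `B^g` : `B^g = B^x` for every `x` with `Q ≤ H^x`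
  have key : ∀ g x : S, ∀ Q : Subgroup S, MulAut.conj g • cz H z ≤ Q → Q ≤ MulAut.conj x • H →
      MulAut.conj g • cz H z = MulAut.conj x • cz H z := by
    intro g x Q h1 h2
    have h3 : MulAut.conj g • cz H z ≤ MulAut.conj x • cz H z := by
      rw [← cz_smul, ← cz_smul]
      have h4 : cz (MulAut.conj g • H) z ≤ MulAut.conj x • H := by
        rw [cz_smul]; exact h1.trans h2
      rw [cz, closure_le] at h4 ⊢
      rintro y hy
      exact subset_closure ⟨h4 hy, hy.2⟩
    exact eq_of_le_of_card_ge h3 (by rw [card_conj_smul, card_conj_smul])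
  refine rowM_of_wc (B := cz H z) hna d hrπ (hR.to_le hBR) ?_ (cz_le z) (le_normalizer_cz z)
    (fun b hb a ha => hRA b (hBR hb) a ha) ?_ hsm hD
  · intro hbot
    obtain ⟨x, -, hx⟩ := hdom (zpowers z) le_top (piN_of_pgroup d.hr hrπ (isPGroup_zpowers hk))
    have h1 : x⁻¹ * z * x ∈ H := mem_smul_iff'.mp (hx (mem_zpowers z))
    have h2 : x⁻¹ * z * x ∈ cz H z := subset_closure ⟨h1, x⁻¹, by group⟩
    rw [hbot, mem_bot] at h2
    apply hz
    have h3 : z = x * (x⁻¹ * z * x) * x⁻¹ := by group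
    rw [h3, h2]; group
  · intro _ g Q hQ h1 h2
    obtain ⟨x, -, hx⟩ := hdom Q le_top (piN_of_pgroup d.hr hrπ hQ)
    have h3 := key g x Q h2 hx
    have h4 := key 1 x Q (by rw [map_one, one_smul]; exact h1) hx
    rw [map_one, one_smul] at h4
    exact h3.trans h4.symm

end Cfsg.Agent.H571.RM
end

-- part: H571/RM/RowC
section
/-!
# S3849: trivial rows and central extensions (helper571)

* `her_of_nilpotent`, `her_of_onePrime`, `her_of_piGrp`, `her_of_not_dom`; `HA.of_two`;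
* `exists_lift_A` : `A` lifts to an abelian subgroup of a central extension of `S` with kernel of order prime to `|A|`;
* `rowM_of_z_cover` : the condition of `rowM_of_z` checked in a central extension.
-/

set_option autoImplicit false

namespace Cfsg.Agent.H571.RM

open Subgroup Cfsg Cfsg.Agent.H988.CPi Cfsg.Agent.H571.DExt Cfsg.Agent.H571.RV Cfsg.Agent.Solvable.SZ
open scoped Pointwise

universe u

variable {π : Set ℕ} {r : ℕ} {S : Type u} [Group S] {H A : Subgroup S}

theorem HA.of_two (h : Cfsg.Agent.H959.RV.Two π H A) : HA π 2 H A :=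
  ⟨Nat.prime_two, h.hall, h.le, h.norm, h.comm, h.odd, h.quot⟩

theorem her_of_not_dom (h : ¬ Dom π S) : Her π S := fun hD => absurd hD h

theorem her_rowM (h : Her π S) : RowM π S := fun _ => h

variable [Finite S]

theorem her_of_nilpotent (hH : IsPiHall π H) (hn : Group.IsNilpotent H) : Her π S := by
  refine her_of_one hH fun _ M hHM => ?_
  refine DomIn.of_dom hH hHM (dom_of_nilpotent (H := H.subgroupOf M) (hall_subgroupOf hH hHM) ?_)
  exact Group.nilpotent_of_mulEquiv (subgroupOfEquivOfLe hHM).symm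

theorem her_of_onePrime (h : OnePrime π S) : Her π S := fun _ _ M _ _ =>
  Cfsg.Agent.H808.RV.dom_of_onePrime fun p q hp hq hpπ hqπ h1 h2 =>
    h p q hp hq hpπ hqπ (h1.trans (card_subgroup_dvd_card M)) (h2.trans (card_subgroup_dvd_card M))

theorem her_of_piGrp (h : PiGrp π S) : Her π S := by
  intro _ H M hH hHM
  have h1 : H = ⊤ := by
    rw [← Subgroup.index_eq_one]
    exact eq_one_of_both (π := π) (PiN.of_dvd h (Subgroup.index_dvd_card H)) hH.2
  refine ⟨⊤, ?_, fun K _ => ⟨1, ?_⟩⟩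
  · have h2 : PiGrp π M := PiN.of_dvd h (card_subgroup_dvd_card M)
    exact h2.hall
  · rw [map_one, one_smul]; exact le_top

section cover

variable {X : Type*} [Group X] [Finite X] (f : X →* S)

/-- the abelian normal subgroup lifts -/
theorem exists_lift_A (hf : Function.Surjective f) (hker : f.ker ≤ Subgroup.center X)
    (hab : ∀ a ∈ A, ∀ b ∈ A, a * b = b * a) (hcop : (Nat.card A).Coprime (Nat.card f.ker)) :
    ∃ A' : Subgroup X, A'.map f = A ∧ (∀ a ∈ A', ∀ b ∈ A', a * b = b * a) ∧ Nat.card A' = Nat.card A ∧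
      (∀ x : X, (f x ∈ A ∧ x ^ Nat.card A = 1) ↔ x ∈ A') ∧
      (∀ x : X, f x ∈ normalizer (A : Set S) → x ∈ normalizer (A' : Set X)) := by
  set n := Nat.card A with hn
  have hcomm : ∀ x y : X, f x ∈ A → f y ∈ A → x ^ n = 1 → x * y = y * x := by
    intro x y hx hy hxn
    set c := x * y * x⁻¹ * y⁻¹ with hc
    have hck : c ∈ f.ker := by
      rw [MonoidHom.mem_ker, hc]
      simp only [map_mul, map_inv]
      rw [hab _ hx _ hy]
      group
    have hcc : ∀ w : X, w * c = c * w := fun w => Subgroup.mem_center_iff.mp (hker hck) w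
    have h1 : x * y * x⁻¹ = c * y := by rw [hc]; group
    have h2 : y * x * y⁻¹ = c⁻¹ * x := by
      rw [hc]; group
    have h3 : (y * x * y⁻¹) ^ n = 1 := by rw [conj_pow, hxn, mul_one, mul_inv_cancel]
    have h4 : (c⁻¹ * x) ^ n = c⁻¹ ^ n * x ^ n := by
      refine (Commute.mul_pow ?_ n)
      exact (Commute.inv_left (show c * x = x * c from (hcc x).symm))
    rw [h2, h4, hxn, mul_one, inv_pow, inv_eq_one] at h3
    have h5 : c ^ Nat.card f.ker = 1 := by
      have h6 : (⟨c, hck⟩ : f.ker) ^ Nat.card f.ker = 1 := pow_card_eq_one'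
      exact congrArg Subtype.val h6
    have h6 : c = 1 := by
      have h7 : orderOf c ∣ n := orderOf_dvd_of_pow_eq_one h3
      have h8 : orderOf c ∣ Nat.card f.ker := orderOf_dvd_of_pow_eq_one h5
      have h9 : orderOf c ∣ 1 := by rw [← hcop]; exact Nat.dvd_gcd h7 h8
      exact orderOf_eq_one_iff.mp (Nat.dvd_one.mp h9)
    rw [h6, one_mul] at h1
    rw [mul_inv_eq_iff_eq_mul] at h1
    exact h1
  let A' : Subgroup X :=
    { carrier := {x | f x ∈ A ∧ x ^ n = 1}
      one_mem' := ⟨by rw [map_one]; exact A.one_mem, one_pow n⟩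
      mul_mem' := by
        rintro x y ⟨hx, hxn⟩ ⟨hy, hyn⟩
        refine ⟨by rw [map_mul]; exact A.mul_mem hx hy, ?_⟩
        rw [(show Commute x y from hcomm x y hx hy hxn).mul_pow, hxn, hyn, one_mul]
      inv_mem' := by
        rintro x ⟨hx, hxn⟩
        exact ⟨by rw [map_inv]; exact A.inv_mem hx, by rw [inv_pow, hxn, inv_one]⟩ }
  have hmem : ∀ x : X, (f x ∈ A ∧ x ^ n = 1) ↔ x ∈ A' := fun x => Iff.rfl
  have hpow : ∀ a ∈ A, a ^ n = 1 := by
    intro a ha
    have h6 : (⟨a, ha⟩ : A) ^ Nat.card A = 1 := pow_card_eq_one'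
    exact congrArg Subtype.val h6
  have hmap : A'.map f = A := by
    apply le_antisymm
    · rintro _ ⟨x, hx, rfl⟩
      exact hx.1
    · intro a ha
      obtain ⟨x, rfl⟩ := hf a
      obtain ⟨m, hm1, hm2⟩ := Nat.chineseRemainder hcop 1 0
      refine ⟨x ^ m, ⟨by rw [map_pow]; exact A.pow_mem ha m, ?_⟩, ?_⟩
      · rw [← pow_mul, mul_comm, pow_mul]
        have h1 : x ^ n ∈ f.ker := by rw [MonoidHom.mem_ker, map_pow, hpow _ ha]
        have h2 : Nat.card f.ker ∣ m := (Nat.modEq_zero_iff_dvd.mp hm2)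
        obtain ⟨j, rfl⟩ := h2
        rw [pow_mul]
        have h3 : (⟨x ^ n, h1⟩ : f.ker) ^ Nat.card f.ker = 1 := pow_card_eq_one'
        have h4 : (x ^ n) ^ Nat.card f.ker = 1 := congrArg Subtype.val h3
        rw [h4, one_pow]
      · rw [map_pow]
        have h1 : f x ^ m = f x ^ 1 := by
          rw [pow_eq_pow_iff_modEq]
          exact hm1.of_dvd (orderOf_dvd_of_pow_eq_one (hpow _ ha))
        rw [h1, pow_one]
  refine ⟨A', hmap, fun a ha b hb => hcomm a b ha.1 hb.1 ha.2, ?_, hmem, ?_⟩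
  · have hinj : Function.Injective (f.comp A'.subtype) := by
      rw [injective_iff_map_eq_one]
      rintro ⟨x, hx⟩ h1
      have h2 : f x = 1 := h1
      have h3 : x ∈ f.ker := h2
      have h4 : (⟨x, h3⟩ : f.ker) ^ Nat.card f.ker = 1 := pow_card_eq_one'
      have h5 : x ^ Nat.card f.ker = 1 := congrArg Subtype.val h4
      have h7 : orderOf x ∣ n := orderOf_dvd_of_pow_eq_one hx.2
      have h8 : orderOf x ∣ Nat.card f.ker := orderOf_dvd_of_pow_eq_one h5
      have h9 : orderOf x ∣ 1 := by rw [← hcop]; exact Nat.dvd_gcd h7 h8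
      exact Subtype.ext (orderOf_eq_one_iff.mp (Nat.dvd_one.mp h9))
    have h1 : Nat.card A' = Nat.card (f.comp A'.subtype).range :=
      Nat.card_congr (Equiv.ofInjective _ hinj)
    rw [h1, MonoidHom.range_comp, Subgroup.range_subtype, hmap]
  · intro x hx
    rw [mem_normalizer_iff]
    intro a
    have h1 : ∀ b : X, (x * b * x⁻¹) ^ n = 1 ↔ b ^ n = 1 := by
      intro b
      rw [conj_pow]
      constructor
      · intro h
        have h2 : b ^ n = x⁻¹ * (x * b ^ n * x⁻¹) * x := by group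
        rw [h2, h]; group
      · intro h
        rw [h]; group
    rw [← hmem, ← hmem, h1]
    have h2 := mem_normalizer_iff.mp hx (f a)
    rw [map_mul, map_mul, map_inv]
    exact and_congr_left fun _ => h2

/-- the condition on `z` checked in a central extension -/
theorem rowM_of_z_cover [IsSimpleGroup S] (hna : ∃ a b : S, a * b ≠ b * a) (d : HA π r H A) (hrπ : r ∈ π)
    (hf : Function.Surjective f) {A' : Subgroup X} (hA' : A ≤ A'.map f) {z : X} (hz : f z ≠ 1)
    (hzr : ∃ k, z ^ r ^ k = 1)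
    (hcen : Dom π S → ∀ g : X, f (g * z * g⁻¹) ∈ H → ∀ a ∈ A', (g * z * g⁻¹) * a = a * (g * z * g⁻¹)) : RowM π S := by
  refine rowM_of_z hna d hrπ hz ?_ fun hD g hg a ha => ?_
  · obtain ⟨k, hk⟩ := hzr
    exact ⟨k, by rw [← map_pow, hk, map_one]⟩
  · obtain ⟨g', rfl⟩ := hf g
    obtain ⟨a', ha', rfl⟩ := hA' ha
    have h1 := hcen hD g' (by rw [map_mul, map_mul, map_inv]; exact hg) a' ha'
    have h2 := congrArg f h1
    simpa only [map_mul, map_inv] using h2

end cover

end Cfsg.Agent.H571.RM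
end

private theorem dce_a66e1e405d91 : _root_.True := by
  try have : _root_.True := by simp only [_root_.Cfsg.Agent.H571.RM.cz.eq_1]
  exact _root_.True.intro
end

-- part: H571/RM/RowS
section
set_option linter.all false
open scoped Cfsg.Agent.FastGrp

/-!
# S3849: `RowM` from a subgroup with centralising conjugates (helper571)

* `rowM_of_sub` : `B₀ ≠ 1` an `r`-subgroup all of whose conjugates inside `H` centralise `A`;
* `rowM_of_cen` : `B₀` centralises EVERY abelian `π`-subgroup of order prime to `r` which it normalises (to be checked in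
  `S` or in a central extension `X` of `S`); no information on `H` and `A` is needed.
-/

set_option autoImplicit false

namespace Cfsg.Agent.H571.RM

open Subgroup Cfsg Cfsg.Agent.H988.CPi Cfsg.Agent.H571.DExt Cfsg.Agent.H571.RV Cfsg.Agent.Solvable.SZ
open scoped Pointwise

universe u

variable {π : Set ℕ} {r : ℕ} {S : Type u} [Group S] {H A : Subgroup S}

/-- the subgroup generated by the conjugates of `B` in `H` -/
def cs (H B : Subgroup S) : Subgroup S := closure {y | ∃ g : S, MulAut.conj g • B ≤ H ∧ y ∈ MulAut.conj g • B}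

theorem cs_le (B : Subgroup S) : cs H B ≤ H := by
  rw [cs, closure_le]
  rintro y ⟨g, hg, hy⟩
  exact hg hy

theorem cs_smul (B : Subgroup S) (x : S) : cs (MulAut.conj x • H) B = MulAut.conj x • cs H B := by
  have h1 : {y | ∃ g : S, MulAut.conj g • B ≤ MulAut.conj x • H ∧ y ∈ MulAut.conj g • B} =
      (MulAut.conj x).toMonoidHom '' {y | ∃ g : S, MulAut.conj g • B ≤ H ∧ y ∈ MulAut.conj g • B} := by
    ext y
    constructor
    · rintro ⟨g, hg, b, hb, rfl⟩
      refine ⟨x⁻¹ * (g * b * g⁻¹) * x, ⟨x⁻¹ * g, ?_, b, hb, ?_⟩, ?_⟩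
      · rw [map_mul, mul_smul]
        have h2 := smul_mono_right (MulAut.conj x⁻¹) hg
        rwa [← mul_smul (MulAut.conj x⁻¹) (MulAut.conj x) H, ← map_mul, inv_mul_cancel, map_one, one_smul] at h2
      · show x⁻¹ * g * b * (x⁻¹ * g)⁻¹ = x⁻¹ * (g * b * g⁻¹) * x
        group
      · show x * (x⁻¹ * (g * b * g⁻¹) * x) * x⁻¹ = g * b * g⁻¹
        group
    · rintro ⟨_, ⟨g, hg, b, hb, rfl⟩, rfl⟩
      refine ⟨x * g, ?_, b, hb, ?_⟩
      · rw [map_mul, mul_smul]
        exact smul_mono_right _ hg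
      · show x * g * b * (x * g)⁻¹ = x * (g * b * g⁻¹) * x⁻¹
        group
  rw [cs, h1]
  exact (MonoidHom.map_closure (MulAut.conj x).toMonoidHom _).symm

theorem le_normalizer_cs (B : Subgroup S) : H ≤ normalizer (cs H B : Set S) := by
  have h1 : ∀ x ∈ H, MulAut.conj x • cs H B = cs H B := by
    intro x hx
    rw [← cs_smul]
    congr 1
    ext y
    rw [mem_smul_iff']
    constructor
    · intro hy
      have h2 := H.mul_mem (H.mul_mem hx hy) (H.inv_mem hx)
      have h3 : x * (x⁻¹ * y * x) * x⁻¹ = y := by group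
      rwa [h3] at h2
    · intro hy
      exact H.mul_mem (H.mul_mem (H.inv_mem hx) hy) hx
  rw [le_normalizer_iff]
  intro x hx b hb
  rw [← h1 x hx]
  exact ⟨b, hb, rfl⟩

variable [Finite S]

/-- **a subgroup all of whose conjugates in `H` centralise `A`** -/
theorem rowM_of_sub [IsSimpleGroup S] (hna : ∃ a b : S, a * b ≠ b * a) (d : HA π r H A) (hrπ : r ∈ π)
    {B : Subgroup S} (hB : IsPGroup r B) (hB1 : B ≠ ⊥)
    (hcen : Dom π S → ∀ g : S, MulAut.conj g • B ≤ H → ∀ b ∈ MulAut.conj g • B, ∀ a ∈ A, b * a = a * b) :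
    RowM π S := by
  intro hsm hD
  obtain ⟨R, hR, hRH, hRA, hRmem⟩ := d.exists_core
  have hconj : ∀ g : S, IsPGroup r (MulAut.conj g • B : Subgroup S) := fun g =>
    (hB.map _ : IsPGroup r (B.map (MulAut.conj g).toMonoidHom))
  have hBR : cs H B ≤ R := by
    rw [cs, closure_le]
    rintro y ⟨g, hg, hy⟩
    obtain ⟨k, hk⟩ := hconj g ⟨y, hy⟩
    exact hRmem y (hg hy) ⟨k, congrArg Subtype.val hk⟩ (hcen hD g hg y hy)
  have hdom := (d.dfw hD).dom
  have key : ∀ g x : S, ∀ Q : Subgroup S, MulAut.conj g • cs H B ≤ Q → Q ≤ MulAut.conj x • H →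
      MulAut.conj g • cs H B = MulAut.conj x • cs H B := by
    intro g x Q h1 h2
    have h3 : MulAut.conj g • cs H B ≤ MulAut.conj x • cs H B := by
      rw [← cs_smul, ← cs_smul]
      have h4 : cs (MulAut.conj g • H) B ≤ MulAut.conj x • H := by
        rw [cs_smul]; exact h1.trans h2
      rw [cs, closure_le] at h4 ⊢
      rintro y ⟨g', hg', hy⟩
      refine subset_closure ⟨g', fun b hb => ?_, hy⟩
      exact h4 ⟨g', hg', hb⟩
    exact eq_of_le_of_card_ge h3 (by rw [card_conj_smul, card_conj_smul])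
  refine rowM_of_wc (B := cs H B) hna d hrπ (hR.to_le hBR) ?_ (cs_le B) (le_normalizer_cs B)
    (fun b hb a ha => hRA b (hBR hb) a ha) ?_ hsm hD
  · intro hbot
    obtain ⟨x, -, hx⟩ := hdom B le_top (piN_of_pgroup d.hr hrπ hB)
    have h0 : MulAut.conj x⁻¹ • B ≤ H := by rw [smul_le_iff', inv_inv]; exact hx
    have h1 : MulAut.conj x⁻¹ • B ≤ cs H B := fun y hy => subset_closure ⟨x⁻¹, h0, hy⟩
    rw [hbot, le_bot_iff] at h1
    apply hB1
    rw [← card_eq_one, ← card_conj_smul x⁻¹ B, h1, card_bot]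
  · intro _ g Q hQ h1 h2
    obtain ⟨x, -, hx⟩ := hdom Q le_top (piN_of_pgroup d.hr hrπ hQ)
    have h3 := key g x Q h2 hx
    have h4 := key 1 x Q (by rw [map_one, one_smul]; exact h1) hx
    rw [map_one, one_smul] at h4
    exact h3.trans h4.symm

/-- **the final criterion** -/
theorem rowM_of_cen [IsSimpleGroup S] (hna : ∃ a b : S, a * b ≠ b * a) (d : HA π r H A) (hrπ : r ∈ π)
    {X : Type*} [Group X] [Finite X] (f : X →* S) (hf : Function.Surjective f) (hker : f.ker ≤ Subgroup.center X)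
    (hcop : (Nat.card A).Coprime (Nat.card f.ker)) {B : Subgroup X} (hB : IsPGroup r B) (hB1 : ∃ b ∈ B, f b ≠ 1)
    (hC : ∀ A' : Subgroup X, (∀ a ∈ A', ∀ b ∈ A', a * b = b * a) → PiN π (Nat.card A') → ¬ r ∣ Nat.card A' →
      B ≤ normalizer (A' : Set X) → ∀ b ∈ B, ∀ a ∈ A', b * a = a * b) : RowM π S := by
  obtain ⟨A', hA'A, hab, hcard, hmem, hnor⟩ := exists_lift_A f hf hker d.ab hcop
  refine rowM_of_sub (B := B.map f) hna d hrπ (hB.map f) ?_ ?_
  · obtain ⟨b, hb, hb1⟩ := hB1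
    intro h
    exact hb1 (by rw [← mem_bot, ← h]; exact ⟨b, hb, rfl⟩)
  · rintro _ g hg b hb a ha
    obtain ⟨g', rfl⟩ := hf g
    obtain ⟨_, ⟨b', hb', rfl⟩, rfl⟩ := hb
    rw [← hA'A] at ha
    obtain ⟨a', ha', rfl⟩ := ha
    -- the conjugate `A'' = g'⁻¹ A' g'`
    have h1 : B ≤ normalizer ((MulAut.conj g'⁻¹ • A' : Subgroup X) : Set X) := by
      rw [le_normalizer_iff]
      rintro c hc _ ⟨x, hx, rfl⟩
      have h2 : f (g' * c * g'⁻¹) ∈ normalizer (A : Set S) := by
        refine d.nor (hg ⟨f c, ⟨c, hc, rfl⟩, ?_⟩)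
        show f g' * f c * (f g')⁻¹ = f (g' * c * g'⁻¹)
        rw [map_mul, map_mul, map_inv]
      have h3 := (mem_normalizer_iff.mp (hnor _ h2) x).mp hx
      refine ⟨_, h3, ?_⟩
      show g'⁻¹ * (g' * c * g'⁻¹ * x * (g' * c * g'⁻¹)⁻¹) * g'⁻¹⁻¹ = c * (g'⁻¹ * x * g'⁻¹⁻¹) * c⁻¹
      group
    have hc : Nat.card (MulAut.conj g'⁻¹ • A' : Subgroup X) = Nat.card A := by
      rw [card_conj_smul, hcard]
    have h4 := hC (MulAut.conj g'⁻¹ • A') (by
      rintro _ ⟨x, hx, rfl⟩ _ ⟨y, hy, rfl⟩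
      show MulAut.conj g'⁻¹ x * MulAut.conj g'⁻¹ y = MulAut.conj g'⁻¹ y * MulAut.conj g'⁻¹ x
      rw [← map_mul, ← map_mul, hab x hx y hy]) (by
      rw [hc]; exact PiN.of_dvd d.hall.1 (card_dvd_of_le d.ale)) (by rw [hc]; exact d.rA) h1 b' hb'
      (g'⁻¹ * a' * g'⁻¹⁻¹) ⟨a', ha', rfl⟩
    have h5 : f g' * f b' * (f g')⁻¹ * f a' = f a' * (f g' * f b' * (f g')⁻¹) := by
      have h6 : g' * b' * g'⁻¹ * a' = a' * (g' * b' * g'⁻¹) := by
        have h7 : g' * (b' * (g'⁻¹ * a' * g'⁻¹⁻¹)) * g'⁻¹ = g' * ((g'⁻¹ * a' * g'⁻¹⁻¹) * b') * g'⁻¹ := by rw [h4]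
        have h8 : g' * (b' * (g'⁻¹ * a' * g'⁻¹⁻¹)) * g'⁻¹ = g' * b' * g'⁻¹ * a' := by group
        have h9 : g' * ((g'⁻¹ * a' * g'⁻¹⁻¹) * b') * g'⁻¹ = a' * (g' * b' * g'⁻¹) := by group
        rw [← h8, h7, h9]
      have h7 := congrArg f h6
      simpa only [map_mul, map_inv] using h7
    exact h5

end Cfsg.Agent.H571.RM

private theorem dce_048a84b8109a : _root_.True := by
  try have : _root_.True := by simp only [_root_.Cfsg.Agent.H571.RM.cs.eq_1]
  exact _root_.True.intro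
end

-- part: H768/RM/Core
section
set_option linter.all false
open scoped Cfsg.Agent.FastGrp

-- part: H768/RM/Norm
section
/-!
# The Sylow count for `D_{s,t}` (helper768)

`no_of_count` : `|S| = s ^ a * t ^ b * m`, `s ^ d` the exact power of `s` in `|N_S(P)|`, `P` Sylow `t`: `D_{s,t}` gives
`s ^ (a - d) ≡ 1` mod `t`.
-/

set_option autoImplicit false

namespace Cfsg.Agent.H768.RM

open Subgroup Cfsg Cfsg.Agent.H571.DExt Cfsg.Agent.H988.CPi Cfsg.Agent.H171.Odd Cfsg.Agent.H555.PiBS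
  Cfsg.Agent.Solvable.SZ Cfsg.Agent.H555.RV
open scoped Pointwise

universe u

variable {S : Type u} [Group S]

theorem piN_sub [Finite S] {s t p : ℕ} (hp : p.Prime) (h : p = s ∨ p = t) {P : Subgroup S} (hP : IsPGroup p P) :
    PiN ({s, t} : Set ℕ) (Nat.card P) := by
  have hf : Fact p.Prime := ⟨hp⟩
  obtain ⟨k, hk⟩ := hP.exists_card_eq
  intro r hr hrd
  rw [hk] at hrd
  rw [(Nat.prime_dvd_prime_iff_eq hr hp).1 (hr.dvd_of_dvd_pow hrd)]
  rcases h with h | h
  · left; exact h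
  · right; exact h

theorem card_hall [Finite S] {s t a b m : ℕ} (hs : s.Prime) (ht : t.Prime) (hS : Nat.card S = s ^ a * t ^ b * m)
    (h2 : ¬ s ∣ m) (hm : ¬ t ∣ m) {K : Subgroup S} (hK : IsPiHall ({s, t} : Set ℕ) K) :
    Nat.card K = s ^ a * t ^ b := by
  have h1 := K.card_mul_index
  rw [hS] at h1
  refine (mul_unique (π := ({s, t} : Set ℕ)) hK.1 hK.2 ?_ ?_ h1)
  · intro r hr hd
    rcases hr.dvd_mul.1 hd with h | h
    · left; exact (Nat.prime_dvd_prime_iff_eq hr hs).1 (hr.dvd_of_dvd_pow h)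
    · right; exact (Nat.prime_dvd_prime_iff_eq hr ht).1 (hr.dvd_of_dvd_pow h)
  · rintro r hr hrπ hd
    rcases hrπ with rfl | h
    · exact h2 hd
    · rw [Set.mem_singleton_iff] at h
      subst h
      exact hm hd

theorem no_of_count [Finite S] {s t a b m d : ℕ} [hs : Fact s.Prime] [ht : Fact t.Prime] (hst : s ≠ t)
    (hS : Nat.card S = s ^ a * t ^ b * m) (h2 : ¬ s ∣ m) (hm : ¬ t ∣ m) (P : Sylow t S)
    (hd : s ^ d ∣ Nat.card (normalizer ((P : Subgroup S) : Set S)))
    (hd' : ¬ s ^ (d + 1) ∣ Nat.card (normalizer ((P : Subgroup S) : Set S)))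
    (har : ¬ s ^ (a - d) ≡ 1 [MOD t]) : ¬ Dom ({s, t} : Set ℕ) S := by
  intro hD
  obtain ⟨K₀, hK₀, hdom⟩ := hD
  have hcK₀ := card_hall hs.out ht.out hS h2 hm hK₀
  set N := normalizer ((P : Subgroup S) : Set S) with hN
  obtain ⟨T, hT⟩ := Sylow.exists_subgroup_card_pow_prime s hd
  set T1 : Subgroup S := T.map N.subtype with hT1
  have hcT : Nat.card T1 = s ^ d := by rw [hT1, card_map_of_injective (subtype_injective N), hT]
  have hTN : T1 ≤ N := map_subtype_le _
  have hcP : Nat.card (P : Subgroup S) = t ^ b := by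
    refine card_sylow_of P (n := s ^ a * m) (by rw [hS]; ring) ?_
    intro h5
    rcases ht.out.dvd_mul.1 h5 with h6 | h6
    · exact hst ((Nat.prime_dvd_prime_iff_eq ht.out hs.out).1 (ht.out.dvd_of_dvd_pow h6)).symm
    · exact hm h6
  have hX : PiN ({s, t} : Set ℕ) (Nat.card (T1 ⊔ (P : Subgroup S) : Subgroup S)) := by
    refine piN_sup hTN ?_ (piN_sub ht.out (Or.inr rfl) P.isPGroup')
    intro r hr hrd
    rw [hcT] at hrd
    left
    exact (Nat.prime_dvd_prime_iff_eq hr hs.out).1 (hr.dvd_of_dvd_pow hrd)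
  obtain ⟨g, hg⟩ := hdom _ hX
  set K : Subgroup S := MulAut.conj g • K₀ with hK
  have hcK : Nat.card K = s ^ a * t ^ b := by rw [hK, card_conj_smul, hcK₀]
  have hPK : (P : Subgroup S) ≤ K := le_sup_right.trans hg
  have hTK : T1 ≤ K := le_sup_left.trans hg
  let Q : Sylow t K := P.subtype hPK
  have h1 : normalizer ((Q : Subgroup K) : Set K) = N.subgroupOf K := by
    have h2 : (Q : Subgroup K) = (P : Subgroup S).subgroupOf K := rfl
    rw [h2]
    exact (subgroupOf_normalizer_eq hPK).symm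
  have h3 : Nat.card (Sylow t K) = (normalizer ((Q : Subgroup K) : Set K)).index := Sylow.card_eq_index_normalizer Q
  have h4 := (N.subgroupOf K).card_mul_index
  rw [← h1, ← h3, h1, hcK] at h4
  have h5 : Nat.card (N.subgroupOf K) = Nat.card (N ⊓ K : Subgroup S) := by
    rw [← subgroupOf_map_subtype, card_map_of_injective (subtype_injective K)]
  have h6 : s ^ d * t ^ b ∣ Nat.card (N ⊓ K : Subgroup S) := by
    refine Nat.Coprime.mul_dvd_of_dvd_of_dvd ?_ ?_ ?_
    · exact Nat.Coprime.pow _ _ ((Nat.coprime_primes hs.out ht.out).2 hst)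
    · rw [← hcT]; exact card_dvd_of_le (le_inf hTN hTK)
    · rw [← hcP]; exact card_dvd_of_le (le_inf le_normalizer hPK)
  obtain ⟨w, hw⟩ := h6
  rw [h5, hw] at h4
  have h7 : s ^ d * (w * Nat.card (Sylow t K)) = s ^ a := by
    apply Nat.eq_of_mul_eq_mul_right (pow_pos ht.out.pos b)
    rw [← h4]; ring
  have hda : d ≤ a := (Nat.pow_dvd_pow_iff_le_right hs.out.one_lt).1 ⟨_, h7.symm⟩
  have h8 : w * Nat.card (Sylow t K) = s ^ (a - d) := by
    apply Nat.eq_of_mul_eq_mul_left (pow_pos hs.out.pos d)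
    rw [h7, ← pow_add]
    congr 1
    omega
  obtain ⟨i, hi, hwi⟩ := (Nat.dvd_prime_pow hs.out).1 (⟨_, h8.symm⟩ : w ∣ s ^ (a - d))
  have hi0 : i = 0 := by
    by_contra hne
    apply hd'
    have h9 : s ^ (d + 1) ∣ Nat.card (N ⊓ K : Subgroup S) := by
      rw [hw, hwi]
      obtain ⟨j, rfl⟩ := Nat.exists_eq_succ_of_ne_zero hne
      exact ⟨t ^ b * s ^ j, by rw [pow_succ, pow_succ]; ring⟩
    exact h9.trans (card_dvd_of_le inf_le_left)
  rw [hi0, pow_zero] at hwi
  rw [hwi, one_mul] at h8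
  apply har
  rw [← h8]
  exact card_sylow_modEq_one t K

/-- **the count for a Sylow subgroup of order `t`** -/
theorem no_of_norm [Finite S] {N s t a m d n : ℕ} (hS : Nat.card S = N) (hs : s.Prime) (ht : t.Prime) {x : S}
    (hx : orderOf x = t) (hn : Nat.card (normalizer ((zpowers x : Subgroup S) : Set S)) = n)
    (hN : s ≠ t ∧ N = s ^ a * t * m ∧ ¬ s ∣ m ∧ ¬ t ∣ m ∧ s ^ d ∣ n ∧ ¬ s ^ (d + 1) ∣ n ∧ ¬ s ^ (a - d) % t = 1 % t) :
    ¬ Dom ({s, t} : Set ℕ) S := by
  obtain ⟨hst, hN, h2, hm, hd, hd', har⟩ := hN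
  have hs' : Fact s.Prime := ⟨hs⟩
  have ht' : Fact t.Prime := ⟨ht⟩
  have hnt : ¬ t ∣ s ^ a * m := by
    intro h5
    rcases ht.dvd_mul.1 h5 with h6 | h6
    · exact hst ((Nat.prime_dvd_prime_iff_eq ht hs).1 (ht.dvd_of_dvd_pow h6)).symm
    · exact hm h6
  obtain ⟨P, hP⟩ : ∃ P : Sylow t S, (P : Subgroup S) = zpowers x := by
    obtain ⟨P, hP⟩ := (IsPGroup.of_card (p := t) (n := 1) (G := zpowers x)
      (by rw [Nat.card_zpowers, hx, pow_one])).exists_le_sylow
    exact ⟨P, (eq_of_le_of_card_ge hP (by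
      rw [card_sylow_of P (b := 1) (n := s ^ a * m) (by rw [hS, hN]; ring) hnt, Nat.card_zpowers, hx, pow_one])).symm⟩
  exact no_of_count (a := a) (b := 1) (m := m) (d := d) hst (by rw [hS, hN, pow_one]) h2 hm P
    (by rw [hP, hn]; exact hd) (by rw [hP, hn]; exact hd') har

end Cfsg.Agent.H768.RM
end

-- part: H768/RM/Core
section
/-!
# Hall `{s,t}`-subgroups of a group without `T`-invariant `t`-subgroups (helper768)

* `exists_core` : `F = O_s(K)` contains its centralizer in `K`;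
* `no_of_fix` : an elementary abelian subgroup `E` of order `t ^ 2` which centralizes each `E`-invariant `s`-subgroup of `C(x)`, `x ∈ E`
  of order `t`: no Hall `{s,t}`-subgroup.
-/

set_option autoImplicit false

namespace Cfsg.Agent.H768.RM

open Subgroup Cfsg Cfsg.Agent.H571.DExt Cfsg.Agent.H988.CPi Cfsg.Agent.H171.Odd Cfsg.Agent.H555.PiBS
  Cfsg.Agent.Solvable.SZ Cfsg.Agent.H555.RV
open scoped Pointwise

universe u

variable {S : Type u} [Group S]

theorem exists_core [Finite S] {s t a b m : ℕ} (hs : s.Prime) (ht : t.Prime)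
    (hS : Nat.card S = s ^ a * t ^ b * m) (h2 : ¬ s ∣ m) (hm : ¬ t ∣ m) (hI : Inv1 s t S) {K : Subgroup S}
    (hK : IsPiHall ({s, t} : Set ℕ) K) :
    ∃ Q : Subgroup S, Q ≤ K ∧ IsPGroup s Q ∧ K ≤ normalizer (Q : Set S) ∧ K ⊓ centralizer (Q : Set S) ≤ Q := by
  have hcK := card_hall hs ht hS h2 hm hK
  have hfp : Fact t.Prime := ⟨ht⟩
  have hf2 : Fact s.Prime := ⟨hs⟩
  have hsol : Group.IsSolvable K := S0144.result s t a b hs ht hcK
  -- `O_t(K) = 1`
  have hOp : pCore t K = ⊥ := by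
    obtain ⟨T⟩ : Nonempty (Sylow s K) := inferInstance
    have h3 := hI ((T : Subgroup K).map K.subtype) (T.isPGroup'.map _)
      (not_dvd_index_map (by simp) hK T) ((pCore t K).map K.subtype)
      ((Lib.Cores.pCore_isPGroup t).map _) (by
        rintro x ⟨t, -, rfl⟩
        apply mem_normalizer_fintype
        rintro y ⟨z, hz, rfl⟩
        exact ⟨t * z * t⁻¹, (Lib.Cores.pCore_normal _).conj_mem z hz t, by simp⟩)
    rwa [map_eq_bot_iff_of_injective _ (subtype_injective _)] at h3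
  have hO2 : pPrimeCore s K = ⊥ := by
    have h3 := Lib.Cores.pPrimeCore_coprime (G := K) s
    have h4 : Nat.card (pPrimeCore s K) ∣ t ^ b := by
      have h5 : Nat.card (pPrimeCore s K) ∣ s ^ a * t ^ b := by rw [← hcK]; exact card_subgroup_dvd_card _
      exact (Nat.Coprime.pow_right a h3).dvd_of_dvd_mul_left h5
    have h5 : IsPGroup t (pPrimeCore s K) := by
      obtain ⟨k, -, hk⟩ := (Nat.dvd_prime_pow ht).1 h4
      exact IsPGroup.of_card hk
    have h6 := Lib.Cores.le_pCore (Lib.Cores.pPrimeCore_normal s) h5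
    rw [hOp] at h6
    exact le_bot_iff.1 h6
  have hC := Lib.HallHigman.centralizer_pCore_le_of_solvable (G := K) s hO2
  refine ⟨(pCore s K).map K.subtype, map_subtype_le _, (Lib.Cores.pCore_isPGroup s).map _, ?_, ?_⟩
  · intro t ht
    apply mem_normalizer_fintype
    rintro y ⟨z, hz, rfl⟩
    exact ⟨(⟨t, ht⟩ * z * ⟨t, ht⟩⁻¹ :), (Lib.Cores.pCore_normal _).conj_mem z hz _, by simp⟩
  · rintro x ⟨hx, hxc⟩
    refine ⟨⟨x, hx⟩, hC ?_, rfl⟩
    show (⟨x, hx⟩ : K) ∈ centralizer (pCore s K : Set K)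
    rw [mem_centralizer_iff]
    intro y hy
    exact Subtype.ext (mem_centralizer_iff.1 hxc (y : S) ⟨y, hy, rfl⟩)

/-- a `t`-element acting on an `s`-group: the number of fixed points -/
theorem le_cent_of_card [Finite S] {s t : ℕ} (hs : s.Prime) [ht : Fact t.Prime] {Q : Subgroup S} {k : ℕ}
    (hQ : Nat.card Q = s ^ k) {E : Subgroup S} (hE : IsPGroup t E) (hEQ : E ≤ normalizer (Q : Set S))
    (h : ∀ i < k, ¬ s ^ i ≡ s ^ k [MOD t]) : Q ≤ centralizer (E : Set S) := by
  classical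
  let _ : MulAction E Q :=
    { smul := fun e y => ⟨e * y * (e : S)⁻¹, (mem_normalizer_iff.1 (hEQ e.2) y).1 y.2⟩
      one_smul := fun y => Subtype.ext (by show (1 : S) * y * (1 : S)⁻¹ = y; rw [one_mul, inv_one, mul_one])
      mul_smul := fun e f y => Subtype.ext (by
        show ((e * f : E) : S) * y * ((e * f : E) : S)⁻¹ = e * (f * y * (f : S)⁻¹) * (e : S)⁻¹
        rw [Subgroup.coe_mul]; group) }
  have hsm : ∀ (e : E) (y : Q), ((e • y : Q) : S) = e * y * (e : S)⁻¹ := fun _ _ => rfl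
  have h1 := hE.card_modEq_card_fixedPoints Q
  have h2 : Nat.card (MulAction.fixedPoints E Q) = Nat.card ((centralizer (E : Set S)).subgroupOf Q) := by
    apply Nat.card_congr
    refine Equiv.subtypeEquivRight fun y => ?_
    rw [MulAction.mem_fixedPoints, mem_subgroupOf, mem_centralizer_iff]
    constructor
    · intro h3 e he
      have h4 := congrArg Subtype.val (h3 ⟨e, he⟩)
      rw [hsm, mul_inv_eq_iff_eq_mul] at h4
      exact h4
    · intro h3 e
      apply Subtype.ext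
      rw [hsm, mul_inv_eq_iff_eq_mul]
      exact h3 e e.2
  have h3 : Nat.card ((centralizer (E : Set S)).subgroupOf Q) ∣ s ^ k := by
    rw [← hQ]; exact card_subgroup_dvd_card _
  obtain ⟨i, hi, hik⟩ := (Nat.dvd_prime_pow hs).1 h3
  rw [h2, hik, hQ] at h1
  have h4 : i = k := by
    rcases lt_or_eq_of_le hi with h5 | h5
    · exact absurd h1.symm (h i h5)
    · exact h5
  rw [h4, ← hQ] at hik
  exact subgroupOf_eq_top.1 (eq_top_of_card_eq _ hik)

/-- **(NC')** -/
theorem no_of_fix [Finite S] {N s t a b m : ℕ} (hS : Nat.card S = N) (hs : s.Prime) (ht : t.Prime)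
    (hN : s ≠ t ∧ N = s ^ a * t ^ b * m ∧ ¬ s ∣ m ∧ ¬ t ∣ m) (hI : Inv1 s t S)
    (h : ∃ E : Subgroup S, IsElementaryAbelian t E ∧ Nat.card E = t ^ 2)
    (hE : ∀ E : Subgroup S, IsElementaryAbelian t E → Nat.card E = t ^ 2 → ∀ x ∈ E, orderOf x = t → ∀ R : Subgroup S,
      IsPGroup s R → E ≤ normalizer (R : Set S) → R ≤ centralizer ({x} : Set S) → R ≤ centralizer (E : Set S))
    (K : Subgroup S) : ¬ IsPiHall ({s, t} : Set ℕ) K := by
  intro hK
  obtain ⟨hst, hN, h2, hm⟩ := hN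
  have hfs : Fact s.Prime := ⟨hs⟩
  have hft : Fact t.Prime := ⟨ht⟩
  rw [hN] at hS
  obtain ⟨F, hFK, hFs, hKF, hCF⟩ := exists_core hs ht hS h2 hm hI hK
  -- a conjugate of `E` in `K`
  obtain ⟨P⟩ : Nonempty (Sylow t K) := inferInstance
  obtain ⟨E₀, hE₀, hcE₀⟩ := h
  have hE₀p : IsPGroup t E₀ := IsPGroup.of_card hcE₀
  obtain ⟨Q, hQ⟩ := hE₀p.exists_le_sylow
  have hPS : IsPGroup t ((P : Subgroup K).map K.subtype) := P.isPGroup'.map _
  set P' : Sylow t S := hPS.toSylow (not_dvd_index_map (by simp) hK P) with hP'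
  obtain ⟨g, hg⟩ := MulAction.exists_smul_eq S Q P'
  have hP'K : (P' : Subgroup S) ≤ K := by
    rw [hP', IsPGroup.toSylow_coe]; exact map_subtype_le _
  set E : Subgroup S := E₀.map (MulAut.conj g).toMonoidHom with hEdef
  have hEK : E ≤ K := by
    refine le_trans ?_ hP'K
    rw [← hg]
    exact map_mono hQ
  have hcE : Nat.card E = t ^ 2 := by rw [hEdef, card_map_of_injective (MulAut.conj g).injective, hcE₀]
  have hEe : IsElementaryAbelian t E := by
    obtain ⟨h3, h4⟩ := hE₀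
    refine ⟨?_, ?_⟩
    · refine ⟨⟨?_⟩⟩
      rintro ⟨_, ⟨x, hx, rfl⟩⟩ ⟨_, ⟨y, hy, rfl⟩⟩
      apply Subtype.ext
      have h5 := congrArg Subtype.val (h3.is_comm.comm ⟨x, hx⟩ ⟨y, hy⟩)
      have h6 : x * y = y * x := h5
      show (MulAut.conj g).toMonoidHom x * (MulAut.conj g).toMonoidHom y = _ * _
      rw [← map_mul, h6, map_mul]
    · rintro _ ⟨x, hx, rfl⟩
      rw [← map_pow, h4 x hx, map_one]
  have hE1 : E ≠ ⊥ := by
    intro h3
    rw [h3, card_bot] at hcE
    have := ht.one_lt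
    nlinarith
  have htF : ¬ t ∣ Nat.card F := by
    obtain ⟨k, hk⟩ := hFs.exists_card_eq
    rw [hk]
    intro h3
    exact hst ((Nat.prime_dvd_prime_iff_eq ht hs).1 (ht.dvd_of_dvd_pow h3)).symm
  have hgen := Lib.CoprimeHyperplane.iSup_centralizer_hyperplane hEe hE1 htF (hEK.trans hKF)
  have hFC : F ≤ centralizer (E : Set S) := by
    rw [← hgen]
    refine iSup_le fun B => ?_
    obtain ⟨B, hBE, hBi⟩ := B
    have hcB : Nat.card B = t := by
      have h3 := card_inf_mul B E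
      rw [inf_eq_left.2 hBE, hBi, hcE] at h3
      exact Nat.eq_of_mul_eq_mul_right ht.pos (by rw [h3]; ring)
    obtain ⟨⟨x, hxB⟩, hx⟩ := exists_prime_orderOf_dvd_card' (G := B) t (by rw [hcB])
    rw [Subgroup.orderOf_mk] at hx
    refine hE E hEe hcE x (hBE hxB) hx _ (hFs.to_le inf_le_left) ?_ ?_
    · -- `E` normalises `F ⊓ C(B)`
      intro e he
      apply mem_normalizer_fintype
      rintro y ⟨hy1, hy2⟩
      refine ⟨(mem_normalizer_iff.1 (hKF (hEK he)) y).1 hy1, ?_⟩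
      show e * y * e⁻¹ ∈ centralizer (B : Set S)
      rw [mem_centralizer_iff]
      intro b hb
      have h3 : b * y = y * b := mem_centralizer_iff.1 hy2 b hb
      have h4 : b * e = e * b := congrArg Subtype.val (hEe.1.is_comm.comm ⟨b, hBE hb⟩ ⟨e, he⟩)
      have h5 : b * e⁻¹ = e⁻¹ * b := by
        rw [eq_inv_mul_iff_mul_eq, ← mul_assoc, ← h4, mul_inv_cancel_right]
      calc b * (e * y * e⁻¹) = (b * e) * y * e⁻¹ := by group
        _ = e * (b * y) * e⁻¹ := by rw [h4]; group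
        _ = e * y * (b * e⁻¹) := by rw [h3]; group
        _ = e * y * e⁻¹ * b := by rw [h5]; group
    · rintro y ⟨-, hy⟩
      rw [mem_centralizer_singleton_iff]
      exact (mem_centralizer_iff.1 hy x hxB).symm
  -- `E ≤ C_K(F) ≤ F`
  have h3 : E ≤ F := by
    intro e he
    refine hCF ⟨hEK he, ?_⟩
    show e ∈ centralizer (F : Set S)
    rw [mem_centralizer_iff]
    intro y hy
    exact (mem_centralizer_iff.1 (hFC hy) e he).symm
  have h4 : t ∣ Nat.card E := by rw [hcE]; exact dvd_pow_self t (by norm_num)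
  exact htF (h4.trans (card_dvd_of_le h3))

/-- **(NC)** -/
theorem no_of_nc [Finite S] {N s t a b m k : ℕ} (hS : Nat.card S = N) (hs : s.Prime) (ht : t.Prime)
    (hN : s ≠ t ∧ N = s ^ a * t ^ b * m ∧ ¬ s ∣ m ∧ ¬ t ∣ m) (hI : Inv1 s t S)
    (h : ∃ E : Subgroup S, IsElementaryAbelian t E ∧ Nat.card E = t ^ 2)
    (hx : ∀ x : S, orderOf x = t → ¬ s ^ k ∣ Nat.card (centralizer ({x} : Set S)))
    (hk : ∀ j < k, ∀ i < j, ¬ s ^ i ≡ s ^ j [MOD t])
    (K : Subgroup S) : ¬ IsPiHall ({s, t} : Set ℕ) K := by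
  refine no_of_fix hS hs ht hN hI h (fun E hE hcE x hxE hxo R hR hER hRx => ?_) K
  have hft : Fact t.Prime := ⟨ht⟩
  have hfs : Fact s.Prime := ⟨hs⟩
  obtain ⟨j, hj⟩ := hR.exists_card_eq
  have hjk : j < k := by
    by_contra h3
    push Not at h3
    refine hx x hxo ?_
    have h4 := card_dvd_of_le hRx
    rw [hj] at h4
    exact (pow_dvd_pow s h3).trans h4
  exact le_cent_of_card hs hj (IsPGroup.of_card hcE) hER (hk j hjk)

theorem no_dom {π : Set ℕ} (h : ∀ K : Subgroup S, ¬ IsPiHall π K) : ¬ Dom π S := fun ⟨K, hK, _⟩ => h K hK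

end Cfsg.Agent.H768.RM
end
end

-- part: H841/RM/Five
section
set_option linter.all false
open scoped Cfsg.Agent.FastGrp

/-!
# Subgroups of extraspecial groups avoiding the centre (helper841, S3849 P11)

* `dvd_relIndex` : `E` a `p`-group with `[E, E] ≤ ⟨z⟩`, `z` central of order `p`, `p ^ 3 ∣ |E : Z(E)|`: if `z ∉ D ≤ E` then
  `p ^ 3 ∣ |E : D|`;
* `X5` : generators and relations of `5 ^ (1+4)`; `X5.spec`.
-/

set_option autoImplicit false

namespace Cfsg.Agent.H841.RM.Five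

open Subgroup Cfsg

section gen

variable {G : Type*} [Group G] [Finite G]

theorem dvd_of_lt {p : ℕ} (hp : p.Prime) {E K H : Subgroup G} (hE : IsPGroup p E) (hH : H ≤ E)
    {x : G} (hx : x ∈ H) (hxK : x ∉ K) : p ∣ K.relIndex H := by
  have hft : Fact p.Prime := ⟨hp⟩
  have hHp : IsPGroup p H := hE.to_le hH
  obtain ⟨n, hn⟩ := hHp.index (K.subgroupOf H)
  have h1 : K.relIndex H = p ^ n := hn
  rw [h1]
  refine dvd_pow_self p ?_
  rintro rfl
  rw [pow_zero, relIndex_eq_one] at h1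
  exact hxK (h1 hx)

theorem dvd_relIndex {p : ℕ} (hp : p.Prime) {E : Subgroup G} (hE : IsPGroup p E) {z : G} (hz : orderOf z = p)
    (hzE : z ∈ E) (hzc : ∀ g ∈ E, g * z = z * g) (hc : ∀ g ∈ E, ∀ h ∈ E, ∃ m : ℤ, g * h * g⁻¹ * h⁻¹ = z ^ m)
    (hW : p ^ 3 ∣ (E ⊓ centralizer (E : Set G)).relIndex E) {D : Subgroup G} (hD : D ≤ E) (hzD : z ∉ D) :
    p ^ 3 ∣ D.relIndex E := by
  have hft : Fact p.Prime := ⟨hp⟩
  obtain ⟨k, hk⟩ := hE.index (D.subgroupOf E)
  have hk : D.relIndex E = p ^ k := hk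
  rw [hk]
  apply pow_dvd_pow
  by_contra hlt
  push Not at hlt
  -- `D` is commutative
  have hDc : ∀ a ∈ D, ∀ b ∈ D, a * b = b * a := by
    intro a ha b hb
    obtain ⟨m, hm⟩ := hc a (hD ha) b (hD hb)
    by_cases h1 : z ^ m = 1
    · rw [h1, mul_inv_eq_one, mul_inv_eq_iff_eq_mul] at hm
      exact hm
    · exfalso
      apply hzD
      have h2 : z ^ m ∈ D := by
        rw [← hm]
        exact mul_mem (mul_mem (mul_mem ha hb) (inv_mem ha)) (inv_mem hb)
      have h3 : orderOf (z ^ m) = p := by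
        apply orderOf_eq_prime _ h1
        rw [← zpow_natCast, ← zpow_mul, mul_comm, zpow_mul, zpow_natCast, ← hz, pow_orderOf_eq_one, one_zpow]
      have h4 : zpowers (z ^ m) = zpowers z := eq_of_le_of_card_ge (zpowers_le.2 (zpow_mem_zpowers z m))
        (by rw [Nat.card_zpowers, Nat.card_zpowers, h3, hz])
      exact (zpowers_le.2 h2) (h4 ▸ mem_zpowers z)
  set A : Subgroup G := D ⊔ zpowers z with hA
  have hAE : A ≤ E := sup_le hD (zpowers_le.2 hzE)
  have hAc : ∀ a ∈ A, ∀ b ∈ A, a * b = b * a := by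
    have h1 : D ≤ centralizer (A : Set G) := by
      intro a ha
      rw [mem_centralizer_iff]
      intro b hb
      have h2 : A ≤ centralizer ({a} : Set G) := sup_le
        (fun d hd => mem_centralizer_singleton_iff.2 (hDc d hd a ha))
        (zpowers_le.2 (mem_centralizer_singleton_iff.2 (hzc a (hD ha)).symm))
      exact mem_centralizer_singleton_iff.1 (h2 hb)
    have h2 : A ≤ centralizer (A : Set G) := sup_le h1 (zpowers_le.2 (mem_centralizer_iff.2 fun b hb => hzc b (hAE hb)))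
    intro a ha b hb
    exact (mem_centralizer_iff.1 (h2 ha) b hb).symm
  have h1 : D.relIndex A * A.relIndex E = p ^ k := by
    rw [relIndex_mul_relIndex _ _ _ le_sup_left hAE, hk]
  have h2 : p ∣ D.relIndex A := dvd_of_lt hp hE hAE (mem_sup_right (mem_zpowers z)) hzD
  have h3 : A.relIndex E ∣ p := by
    obtain ⟨q, hq⟩ := h2
    have h4 : p * (q * A.relIndex E) = p ^ k := by rw [← h1, hq]; ring
    have h5 : p ^ k ∣ p * p := by
      rw [← pow_two]
      exact pow_dvd_pow p (by omega)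
    rw [← h4] at h5
    exact (dvd_mul_left _ _).trans (Nat.dvd_of_mul_dvd_mul_left hp.pos h5)
  have hWne : (E ⊓ centralizer (E : Set G)).relIndex E ≠ 0 := by
    show ((E ⊓ centralizer (E : Set G)).subgroupOf E).index ≠ 0
    exact index_ne_zero_of_finite
  have hWge : p ^ 3 ≤ (E ⊓ centralizer (E : Set G)).relIndex E := Nat.le_of_dvd (Nat.pos_of_ne_zero hWne) hW
  have hp1 : 1 < p := hp.one_lt
  rcases (Nat.dvd_prime hp).1 h3 with h4 | h4
  · -- `A = E`
    rw [relIndex_eq_one] at h4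
    have h5 : (E ⊓ centralizer (E : Set G)).relIndex E = 1 := by
      rw [relIndex_eq_one]
      exact le_inf le_rfl fun a ha => mem_centralizer_iff.2 fun b hb => hAc b (h4 hb) a (h4 ha)
    rw [h5] at hWge
    have := Nat.one_lt_pow (n := 3) (by norm_num) hp1
    omega
  · obtain ⟨g, hgE, hgA⟩ : ∃ g ∈ E, g ∉ A := by
      by_contra hcon
      push Not at hcon
      have : A.relIndex E = 1 := relIndex_eq_one.2 hcon
      omega
    have h5 : E ≤ A ⊔ zpowers g := by
      have h6 : A.relIndex (A ⊔ zpowers g) * (A ⊔ zpowers g).relIndex E = p := by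
        rw [relIndex_mul_relIndex _ _ _ le_sup_left (sup_le hAE (zpowers_le.2 hgE)), h4]
      have h7 : p ∣ A.relIndex (A ⊔ zpowers g) := dvd_of_lt hp hE (sup_le hAE (zpowers_le.2 hgE))
        (mem_sup_right (mem_zpowers g)) hgA
      obtain ⟨q, hq⟩ := h7
      have h8 : p * (q * (A ⊔ zpowers g).relIndex E) = p * 1 := by rw [mul_one, ← mul_assoc, ← hq, h6]
      exact relIndex_eq_one.1 (Nat.eq_one_of_mul_eq_one_left (Nat.eq_of_mul_eq_mul_left hp.pos h8))
    -- the homomorphism `a ↦ [g, a]`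
    have hcen : ∀ a ∈ E, ∀ b ∈ E, ∀ c ∈ E, (g * a * g⁻¹ * a⁻¹) * c = c * (g * a * g⁻¹ * a⁻¹) := by
      intro a ha b hb c hcE
      obtain ⟨m, hm⟩ := hc g hgE a ha
      rw [hm]
      have : Commute c z := hzc c hcE
      exact (this.zpow_right m).eq.symm
    let φ : A →* G := MonoidHom.mk' (fun a => g * (a : G) * g⁻¹ * (a : G)⁻¹) (by
      intro a b
      show g * ((a : G) * (b : G)) * g⁻¹ * ((a : G) * (b : G))⁻¹ = _
      have h6 : Commute (g * (b : G) * g⁻¹ * (b : G)⁻¹) (a : G) := hcen b (hAE b.2) 1 (one_mem _) a (hAE a.2)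
      calc g * ((a : G) * (b : G)) * g⁻¹ * ((a : G) * (b : G))⁻¹
          = g * a * g⁻¹ * ((g * b * g⁻¹ * (b : G)⁻¹) * (a : G)⁻¹) := by group
        _ = g * a * g⁻¹ * ((a : G)⁻¹ * (g * b * g⁻¹ * (b : G)⁻¹)) := by
            rw [h6.inv_right.eq]
        _ = _ := by group)
    have h6 : φ.ker.index ∣ p := by
      rw [Subgroup.index_ker]
      have h7 : φ.range ≤ zpowers z := by
        rintro _ ⟨a, rfl⟩
        obtain ⟨m, hm⟩ := hc g hgE a (hAE a.2)
        show g * (a : G) * g⁻¹ * (a : G)⁻¹ ∈ _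
        rw [hm]
        exact zpow_mem_zpowers z m
      have h8 := card_dvd_of_le h7
      rwa [Nat.card_zpowers, hz] at h8
    have h7 : (φ.ker.map A.subtype) ≤ E ⊓ centralizer (E : Set G) := by
      rintro _ ⟨a, ha, rfl⟩
      have h8 : g * (a : G) * g⁻¹ * (a : G)⁻¹ = 1 := ha
      have h9 : (a : G) * g = g * a := by
        rw [mul_inv_eq_one, mul_inv_eq_iff_eq_mul] at h8
        exact h8.symm
      refine ⟨hAE a.2, mem_centralizer_iff.2 fun b hb => ?_⟩
      have h10 : A ⊔ zpowers g ≤ centralizer ({(a : G)} : Set G) := sup_le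
        (fun d hd => mem_centralizer_singleton_iff.2 (hAc d hd a a.2))
        (zpowers_le.2 (mem_centralizer_singleton_iff.2 h9.symm))
      exact mem_centralizer_singleton_iff.1 (h10 (h5 hb))
    have h8 : (φ.ker.map A.subtype).relIndex E ∣ p * p := by
      have h9 : (φ.ker.map A.subtype) ≤ A := map_subtype_le _
      rw [← relIndex_mul_relIndex _ _ _ h9 hAE, h4]
      refine mul_dvd_mul ?_ dvd_rfl
      have h10 : (φ.ker.map A.subtype).relIndex A = φ.ker.index := by
        show ((φ.ker.map A.subtype).subgroupOf A).index = _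
        congr 1
        exact comap_map_eq_self_of_injective A.subtype_injective _
      rwa [h10]
    have h9 : (E ⊓ centralizer (E : Set G)).relIndex E ≤ p * p := by
      refine (Nat.le_of_dvd (by positivity) ((relIndex_dvd_of_le_left E h7).trans h8))
    have h10 : p ^ 3 = p * p * p := by ring
    have h11 : p * p * 1 < p * p * p := Nat.mul_lt_mul_of_pos_left hp1 (by positivity)
    omega

end gen

/-! ### `5 ^ (1+4)` -/

/-- generators and relations of `5 ^ (1+4)` (a part of `H536.T5.Five.Dat`) -/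
structure X5 {G : Type*} [Group G] (z n1 n2 n3 n4 : G) : Prop where
  z5 : z ^ 5 = 1
  z1 : z ≠ 1
  p1 : n1 ^ 5 = 1
  p2 : n2 ^ 5 = 1
  p3 : n3 ^ 5 = 1
  p4 : n4 ^ 5 = 1
  zn1 : z * n1 = n1 * z
  zn2 : z * n2 = n2 * z
  zn3 : z * n3 = n3 * z
  zn4 : z * n4 = n4 * z
  n12 : n1 * n2 = n2 * n1
  n13 : n1 * n3 = n3 * n1
  n14 : n1 * n4 = z ^ 2 * n4 * n1
  n23 : n2 * n3 = z ^ 3 * n3 * n2
  n24 : n2 * n4 = z ^ 2 * n4 * n2
  n34 : n3 * n4 = n4 * n3

namespace X5

variable {G : Type*} [Group G]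

theorem map {H : Type*} [Group H] {z n1 n2 n3 n4 : G} (X : X5 z n1 n2 n3 n4) (f : G →* H) (hf : Function.Injective f) :
    X5 (f z) (f n1) (f n2) (f n3) (f n4) where
  z5 := by rw [← map_pow, X.z5, map_one]
  z1 := fun h => X.z1 (hf (by rw [h, map_one]))
  p1 := by rw [← map_pow, X.p1, map_one]
  p2 := by rw [← map_pow, X.p2, map_one]
  p3 := by rw [← map_pow, X.p3, map_one]
  p4 := by rw [← map_pow, X.p4, map_one]
  zn1 := by rw [← map_mul, X.zn1, map_mul]
  zn2 := by rw [← map_mul, X.zn2, map_mul]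
  zn3 := by rw [← map_mul, X.zn3, map_mul]
  zn4 := by rw [← map_mul, X.zn4, map_mul]
  n12 := by rw [← map_mul, X.n12, map_mul]
  n13 := by rw [← map_mul, X.n13, map_mul]
  n14 := by rw [← map_mul, X.n14, map_mul, map_mul, map_pow]
  n23 := by rw [← map_mul, X.n23, map_mul, map_mul, map_pow]
  n24 := by rw [← map_mul, X.n24, map_mul, map_mul, map_pow]
  n34 := by rw [← map_mul, X.n34, map_mul]

variable {z n1 n2 n3 n4 : G}

/-- the elements commuting with `z` which `x` centralizes modulo `z` -/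
def Dn (z x : G) : Subgroup G where
  carrier := {g | g * z = z * g ∧ ∃ m : ℤ, x * g * x⁻¹ = g * z ^ m}
  one_mem' := ⟨by simp, 0, by simp⟩
  mul_mem' := by
    rintro g h ⟨hg, m, hm⟩ ⟨hh, m', hm'⟩
    refine ⟨((show Commute g z from hg).mul_left (show Commute h z from hh)).eq, m + m', ?_⟩
    calc x * (g * h) * x⁻¹ = (x * g * x⁻¹) * (x * h * x⁻¹) := by group
      _ = g * (z ^ m * h) * z ^ m' := by rw [hm, hm']; group
      _ = g * (h * z ^ m) * z ^ m' := by rw [((show Commute h z from hh).zpow_right m).eq]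
      _ = g * h * z ^ (m + m') := by rw [zpow_add]; group
  inv_mem' := by
    rintro g ⟨hg, m, hm⟩
    refine ⟨(show Commute g z from hg).inv_left.eq, -m, ?_⟩
    calc x * g⁻¹ * x⁻¹ = (x * g * x⁻¹)⁻¹ := by group
      _ = z ^ (-m) * g⁻¹ := by rw [hm, mul_inv_rev, zpow_neg]
      _ = g⁻¹ * z ^ (-m) := (((show Commute g z from hg).inv_left.zpow_right (-m)).eq).symm

theorem mem_Dn {x y : G} {k : ℤ} (hx : z * x = x * z) (hy : z * y = y * z) (h : x * y = z ^ k * y * x) :
    y ∈ Dn z x ∧ x ∈ Dn z y := by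
  have c1 : Commute z x := hx
  have c2 : Commute z y := hy
  constructor
  · refine ⟨hy.symm, k, ?_⟩
    rw [h, mul_inv_cancel_right, (c2.zpow_left k).eq]
  · refine ⟨hx.symm, -k, ?_⟩
    have h1 : y * x = z ^ (-k) * (x * y) := by rw [h, ← mul_assoc, ← mul_assoc, ← zpow_add, neg_add_cancel, zpow_zero, one_mul]
    rw [h1, mul_assoc, mul_inv_cancel_right, (c1.zpow_left (-k)).eq]

theorem swap_Dn {g x : G} (hx : z * x = x * z) (h : g ∈ Dn z x) : x ∈ Dn z g := by
  obtain ⟨h1, m, hm⟩ := h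
  have c1 : Commute g z := h1
  refine (mem_Dn (k := m) hx h1.symm ?_).2
  rw [mul_inv_eq_iff_eq_mul] at hm
  rw [hm, (c1.zpow_right m).eq]

/-- the group -/
def E (z n1 n2 n3 n4 : G) : Subgroup G := zpowers z ⊔ zpowers n1 ⊔ zpowers n2 ⊔ zpowers n3 ⊔ zpowers n4

theorem E_le {K : Subgroup G} (hz : z ∈ K) (h1 : n1 ∈ K) (h2 : n2 ∈ K) (h3 : n3 ∈ K) (h4 : n4 ∈ K) :
    E z n1 n2 n3 n4 ≤ K :=
  sup_le (sup_le (sup_le (sup_le (zpowers_le.2 hz) (zpowers_le.2 h1)) (zpowers_le.2 h2)) (zpowers_le.2 h3)) (zpowers_le.2 h4)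

theorem m0 : z ∈ E z n1 n2 n3 n4 := mem_sup_left (mem_sup_left (mem_sup_left (mem_sup_left (mem_zpowers z))))
theorem m1 : n1 ∈ E z n1 n2 n3 n4 := mem_sup_left (mem_sup_left (mem_sup_left (mem_sup_right (mem_zpowers n1))))
theorem m2 : n2 ∈ E z n1 n2 n3 n4 := mem_sup_left (mem_sup_left (mem_sup_right (mem_zpowers n2)))
theorem m3 : n3 ∈ E z n1 n2 n3 n4 := mem_sup_left (mem_sup_right (mem_zpowers n3))
theorem m4 : n4 ∈ E z n1 n2 n3 n4 := mem_sup_right (mem_zpowers n4)

section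

variable (X : X5 z n1 n2 n3 n4)
include X

theorem comm_z : ∀ g ∈ E z n1 n2 n3 n4, g * z = z * g := by
  intro g hg
  have h : E z n1 n2 n3 n4 ≤ centralizer ({z} : Set G) := E_le (mem_centralizer_singleton_iff.2 rfl)
    (mem_centralizer_singleton_iff.2 X.zn1.symm) (mem_centralizer_singleton_iff.2 X.zn2.symm)
    (mem_centralizer_singleton_iff.2 X.zn3.symm) (mem_centralizer_singleton_iff.2 X.zn4.symm)
  exact mem_centralizer_singleton_iff.1 (h hg)

theorem d14 : n4 ∈ Dn z n1 ∧ n1 ∈ Dn z n4 := mem_Dn (k := 2) X.zn1 X.zn4 (by rw [X.n14]; norm_cast)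
theorem d23 : n3 ∈ Dn z n2 ∧ n2 ∈ Dn z n3 := mem_Dn (k := 3) X.zn2 X.zn3 (by rw [X.n23]; norm_cast)
theorem d24 : n4 ∈ Dn z n2 ∧ n2 ∈ Dn z n4 := mem_Dn (k := 2) X.zn2 X.zn4 (by rw [X.n24]; norm_cast)
theorem d12 : n2 ∈ Dn z n1 ∧ n1 ∈ Dn z n2 := mem_Dn (k := 0) X.zn1 X.zn2 (by rw [X.n12, zpow_zero, one_mul])
theorem d13 : n3 ∈ Dn z n1 ∧ n1 ∈ Dn z n3 := mem_Dn (k := 0) X.zn1 X.zn3 (by rw [X.n13, zpow_zero, one_mul])
theorem d34 : n4 ∈ Dn z n3 ∧ n3 ∈ Dn z n4 := mem_Dn (k := 0) X.zn3 X.zn4 (by rw [X.n34, zpow_zero, one_mul])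

omit X in
theorem dself {x : G} (hx : z * x = x * z) : x ∈ Dn z x := (mem_Dn (k := 0) hx hx (by rw [zpow_zero, one_mul])).1

omit X in
theorem dz {x : G} (hx : z * x = x * z) : z ∈ Dn z x := (mem_Dn (k := 0) hx rfl (by rw [zpow_zero, one_mul, hx])).1

theorem le_Dn {h : G} (hh : h ∈ E z n1 n2 n3 n4) : E z n1 n2 n3 n4 ≤ Dn z h := by
  have e1 : E z n1 n2 n3 n4 ≤ Dn z n1 := E_le (dz X.zn1) (dself X.zn1) X.d12.1 X.d13.1 X.d14.1
  have e2 : E z n1 n2 n3 n4 ≤ Dn z n2 := E_le (dz X.zn2) X.d12.2 (dself X.zn2) X.d23.1 X.d24.1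
  have e3 : E z n1 n2 n3 n4 ≤ Dn z n3 := E_le (dz X.zn3) X.d13.2 X.d23.2 (dself X.zn3) X.d34.1
  have e4 : E z n1 n2 n3 n4 ≤ Dn z n4 := E_le (dz X.zn4) X.d14.2 X.d24.2 X.d34.2 (dself X.zn4)
  exact E_le (dz (X.comm_z h hh).symm) (swap_Dn X.zn1 (e1 hh)) (swap_Dn X.zn2 (e2 hh)) (swap_Dn X.zn3 (e3 hh))
    (swap_Dn X.zn4 (e4 hh))

theorem comm : ∀ g ∈ E z n1 n2 n3 n4, ∀ h ∈ E z n1 n2 n3 n4, ∃ m : ℤ, g * h * g⁻¹ * h⁻¹ = z ^ m := by
  intro g hg h hh
  obtain ⟨h1, m, hm⟩ := X.le_Dn hg hh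
  have c1 : Commute h z := h1
  exact ⟨m, by rw [hm, (c1.zpow_right m).eq, mul_inv_cancel_right]⟩

theorem normalizes {K : Subgroup G} (hK : K ≤ E z n1 n2 n3 n4) (hz : z ∈ K) {x : G} (hx : x ∈ E z n1 n2 n3 n4) :
    zpowers x ≤ normalizer (K : Set G) := by
  have key : ∀ y ∈ E z n1 n2 n3 n4, ∀ k ∈ K, y * k * y⁻¹ ∈ K := by
    intro y hy k hk
    obtain ⟨-, m, hm⟩ := X.le_Dn hy (hK hk)
    rw [hm]
    exact mul_mem hk (zpow_mem hz m)
  rw [zpowers_le, mem_normalizer_iff]
  intro k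
  refine ⟨fun hk => key x hx k hk, fun hk => ?_⟩
  have h1 := key x⁻¹ (inv_mem hx) _ hk
  simpa [mul_assoc] using h1

theorem pgroup : IsPGroup 5 ↥(E z n1 n2 n3 n4) := by
  have hft : Fact (Nat.Prime 5) := ⟨Nat.prime_five⟩
  have hx : ∀ {x : G}, x ^ 5 = 1 → IsPGroup 5 ↥(zpowers x) := by
    intro x hx
    rintro ⟨y, hy⟩
    obtain ⟨m, rfl⟩ := mem_zpowers_iff.1 hy
    refine ⟨1, Subtype.ext ?_⟩
    show (x ^ m) ^ (5 ^ 1) = 1
    rw [pow_one, ← zpow_natCast, ← zpow_mul, mul_comm, zpow_mul, zpow_natCast, hx, one_zpow]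
  have z0 : z ∈ zpowers z := mem_zpowers z
  have a0 := hx X.z5
  have a1 := a0.to_sup_of_normal_left' (hx X.p1) (X.normalizes (zpowers_le.2 m0) z0 m1)
  have a2 := a1.to_sup_of_normal_left' (hx X.p2) (X.normalizes (sup_le (zpowers_le.2 m0) (zpowers_le.2 m1))
    (mem_sup_left z0) m2)
  have a3 := a2.to_sup_of_normal_left' (hx X.p3) (X.normalizes (sup_le (sup_le (zpowers_le.2 m0) (zpowers_le.2 m1))
    (zpowers_le.2 m2)) (mem_sup_left (mem_sup_left z0)) m3)
  exact a3.to_sup_of_normal_left' (hx X.p4) (X.normalizes (sup_le (sup_le (sup_le (zpowers_le.2 m0) (zpowers_le.2 m1))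
    (zpowers_le.2 m2)) (zpowers_le.2 m3)) (mem_sup_left (mem_sup_left (mem_sup_left z0))) m4)

theorem zk_ne {k : ℕ} (hk : 1 ≤ k) (hk5 : k < 5) : z ^ k ≠ 1 := by
  have hft : Fact (Nat.Prime 5) := ⟨Nat.prime_five⟩
  intro h
  have h1 := orderOf_dvd_of_pow_eq_one h
  rw [orderOf_eq_prime X.z5 X.z1] at h1
  have := Nat.le_of_dvd (by omega) h1
  omega

theorem ne14 : n1 * n4 ≠ n4 * n1 := by
  intro h
  have h1 := X.n14
  rw [h, mul_assoc] at h1
  exact X.zk_ne (k := 2) (by norm_num) (by norm_num) (mul_eq_right.1 h1.symm)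

theorem ne23 : n2 * n3 ≠ n3 * n2 := by
  intro h
  have h1 := X.n23
  rw [h, mul_assoc] at h1
  exact X.zk_ne (k := 3) (by norm_num) (by norm_num) (mul_eq_right.1 h1.symm)

/-- `n2 * n1⁻¹` commutes with `n4` -/
theorem c214 : (n2 * n1⁻¹) * n4 = n4 * (n2 * n1⁻¹) := by
  have c1 : Commute z n1 := X.zn1
  have c2 : Commute z n2 := X.zn2
  have c4 : Commute z n4 := X.zn4
  have h1 : n1⁻¹ * n4 = (z ^ 2)⁻¹ * n4 * n1⁻¹ := by
    have h2 := X.n14
    calc n1⁻¹ * n4 = n1⁻¹ * ((z ^ 2)⁻¹ * (z ^ 2 * n4 * n1)) * n1⁻¹ := by group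
      _ = n1⁻¹ * ((z ^ 2)⁻¹ * (n1 * n4)) * n1⁻¹ := by rw [h2]
      _ = (n1⁻¹ * (z ^ 2)⁻¹ * n1) * n4 * n1⁻¹ := by group
      _ = (z ^ 2)⁻¹ * n4 * n1⁻¹ := by
        rw [((c1.pow_left 2).inv_left.inv_right).eq.symm, inv_mul_cancel_right]
  calc (n2 * n1⁻¹) * n4 = n2 * (n1⁻¹ * n4) := by group
    _ = n2 * (z ^ 2)⁻¹ * n4 * n1⁻¹ := by rw [h1]; group
    _ = (z ^ 2)⁻¹ * (n2 * n4) * n1⁻¹ := by rw [← ((c2.pow_left 2).inv_left).eq]; group
    _ = n4 * (n2 * n1⁻¹) := by rw [X.n24]; group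

/-- `n2 * n1⁻¹` does not commute with `n3` -/
theorem ne213 : (n2 * n1⁻¹) * n3 ≠ n3 * (n2 * n1⁻¹) := by
  intro h
  apply X.ne23
  have c : Commute n1 n3 := X.n13
  calc n2 * n3 = (n2 * n1⁻¹) * (n1 * n3) := by group
    _ = ((n2 * n1⁻¹) * n3) * n1 := by rw [X.n13]; group
    _ = n3 * n2 := by rw [h]; group

theorem center_index [Finite G] :
    5 ^ 3 ∣ (E z n1 n2 n3 n4 ⊓ centralizer (E z n1 n2 n3 n4 : Set G)).relIndex (E z n1 n2 n3 n4) := by
  set F := E z n1 n2 n3 n4 with hF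
  have hP : IsPGroup 5 F := X.pgroup
  set W := F ⊓ centralizer (F : Set G) with hW
  set A := F ⊓ centralizer ({n4} : Set G) with hA
  set B := A ⊓ centralizer ({n3} : Set G) with hB
  set C := B ⊓ centralizer ({n2} : Set G) with hC
  have hWC : W ≤ C := by
    intro x hx
    have h1 : ∀ y ∈ F, x * y = y * x := fun y hy => (mem_centralizer_iff.1 hx.2 y hy).symm
    exact ⟨⟨⟨hx.1, mem_centralizer_singleton_iff.2 (h1 _ m4)⟩, mem_centralizer_singleton_iff.2 (h1 _ m3)⟩,
      mem_centralizer_singleton_iff.2 (h1 _ m2)⟩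
  have hAF : A ≤ F := inf_le_left
  have hBA : B ≤ A := inf_le_left
  have hCB : C ≤ B := inf_le_left
  have i1 : 5 ∣ A.relIndex F := dvd_of_lt Nat.prime_five hP le_rfl m1
    (fun h => X.ne14 (mem_centralizer_singleton_iff.1 h.2))
  have i2 : 5 ∣ B.relIndex A := dvd_of_lt Nat.prime_five hP hAF (x := n2 * n1⁻¹)
    ⟨F.mul_mem m2 (F.inv_mem m1), mem_centralizer_singleton_iff.2 X.c214⟩
    (fun h => X.ne213 (mem_centralizer_singleton_iff.1 h.2))
  have i3 : 5 ∣ C.relIndex B := dvd_of_lt Nat.prime_five hP (hBA.trans hAF) (x := n3)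
    ⟨⟨m3, mem_centralizer_singleton_iff.2 X.n34⟩, mem_centralizer_singleton_iff.2 rfl⟩
    (fun h => X.ne23 (mem_centralizer_singleton_iff.1 h.2).symm)
  have h1 : W.relIndex F = W.relIndex C * (C.relIndex B * (B.relIndex A * A.relIndex F)) := by
    rw [relIndex_mul_relIndex _ _ _ hBA hAF, relIndex_mul_relIndex _ _ _ hCB (hBA.trans hAF),
      relIndex_mul_relIndex _ _ _ hWC (hCB.trans (hBA.trans hAF))]
  rw [h1]
  refine Dvd.dvd.mul_left ?_ _
  rw [show 5 ^ 3 = 5 * (5 * 5) by norm_num]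
  exact mul_dvd_mul i3 (mul_dvd_mul i2 i1)

/-- **The input of `no_extra`.** -/
theorem spec [Finite G] {D : Subgroup G} (hD : D ≤ E z n1 n2 n3 n4) (hz : z ∉ D) :
    5 ^ 3 ∣ D.relIndex (E z n1 n2 n3 n4) := by
  have hft : Fact (Nat.Prime 5) := ⟨Nat.prime_five⟩
  exact dvd_relIndex Nat.prime_five X.pgroup (orderOf_eq_prime X.z5 X.z1) m0 X.comm_z X.comm X.center_index hD hz

end

end X5

end Cfsg.Agent.H841.RM.Five
end

-- part: H768/RM/Eleven
section
set_option linter.all false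
open scoped Cfsg.Agent.FastGrp

/-!
# A `t`-element acting on a Sylow `s`-subgroup of order `s ^ k`, `k` the order of `s` modulo `t` (helper768)
-/

set_option autoImplicit false

namespace Cfsg.Agent.H768.RM

open Subgroup Cfsg

universe u

variable {S : Type u} [Group S]

/-- the number of fixed points of a `t`-group acting on an `s`-group -/
theorem card_fix [Finite S] {s t : ℕ} (hs : s.Prime) [ht : Fact t.Prime] {Q : Subgroup S} {k : ℕ}
    (hQ : Nat.card Q = s ^ k) {E : Subgroup S} (hE : IsPGroup t E) (hEQ : E ≤ normalizer (Q : Set S)) :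
    ∃ i ≤ k, Nat.card (Q ⊓ centralizer (E : Set S) : Subgroup S) = s ^ i ∧ s ^ i ≡ s ^ k [MOD t] := by
  classical
  let _ : MulAction E Q :=
    { smul := fun e y => ⟨e * y * (e : S)⁻¹, (mem_normalizer_iff.1 (hEQ e.2) y).1 y.2⟩
      one_smul := fun y => Subtype.ext (by show (1 : S) * y * (1 : S)⁻¹ = y; rw [one_mul, inv_one, mul_one])
      mul_smul := fun e f y => Subtype.ext (by
        show ((e * f : E) : S) * y * ((e * f : E) : S)⁻¹ = e * (f * y * (f : S)⁻¹) * (e : S)⁻¹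
        rw [Subgroup.coe_mul]; group) }
  have hsm : ∀ (e : E) (y : Q), ((e • y : Q) : S) = e * y * (e : S)⁻¹ := fun _ _ => rfl
  have h1 := hE.card_modEq_card_fixedPoints Q
  have h2 : Nat.card (MulAction.fixedPoints E Q) = Nat.card ((centralizer (E : Set S)).subgroupOf Q) := by
    apply Nat.card_congr
    refine Equiv.subtypeEquivRight fun y => ?_
    rw [MulAction.mem_fixedPoints, mem_subgroupOf, mem_centralizer_iff]
    constructor
    · intro h3 e he
      have h4 := congrArg Subtype.val (h3 ⟨e, he⟩)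
      rw [hsm, mul_inv_eq_iff_eq_mul] at h4
      exact h4
    · intro h3 e
      apply Subtype.ext
      rw [hsm, mul_inv_eq_iff_eq_mul]
      exact h3 e e.2
  have h3 : Nat.card ((centralizer (E : Set S)).subgroupOf Q) ∣ s ^ k := by
    rw [← hQ]; exact card_subgroup_dvd_card _
  obtain ⟨i, hi, hik⟩ := (Nat.dvd_prime_pow hs).1 h3
  refine ⟨i, hi, ?_, ?_⟩
  · rw [← hik, ← card_map_of_injective (subtype_injective Q), subgroupOf_map_subtype, inf_comm]
  · rw [h2, hik, hQ] at h1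
    exact h1.symm

/-- `s ^ i ≢ s ^ k` for `0 < i < k`, an element of order `s ^ 2`: the action on a Sylow `s`-subgroup of order `s ^ k` is
trivial. -/
theorem le_cent_of_sq [Finite S] {s t k m : ℕ} (hs : s.Prime) [ht : Fact t.Prime]
    (hS : Nat.card S = s ^ k * m) (hm : ¬ s ∣ m) (hk : ∀ i j, i < j → j ≤ k → s ^ i ≡ s ^ j [MOD t] → i = 0 ∧ j = k)
    (hk0 : 0 < k) {g : S} (hg : orderOf g = s ^ 2) {P : Subgroup S} (hP : Nat.card P = s ^ k) {E : Subgroup S}
    (hE : IsPGroup t E) (hEP : E ≤ normalizer (P : Set S)) : P ≤ centralizer (E : Set S) := by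
  have hfs : Fact s.Prime := ⟨hs⟩
  -- an invariant subgroup is contained in the fixed points or is `P`
  have key : ∀ W : Subgroup S, W ≤ P → W ≠ ⊥ → E ≤ normalizer (W : Set S) →
      P ⊓ centralizer (E : Set S) = ⊥ → W = P := by
    intro W hWP hW hEW hbot
    obtain ⟨j, hj⟩ := ((IsPGroup.of_card hP : IsPGroup s P).to_le hWP).exists_card_eq
    have hjk : j ≤ k := by
      have h1 := card_dvd_of_le hWP
      rw [hj, hP] at h1
      exact (Nat.pow_dvd_pow_iff_le_right hs.one_lt).1 h1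
    obtain ⟨i, hi, h1, h2⟩ := card_fix hs hj hE hEW
    have h3 : W ⊓ centralizer (E : Set S) = ⊥ := le_bot_iff.1 (by rw [← hbot]; exact inf_le_inf_right _ hWP)
    rw [h3, card_bot] at h1
    have hi0 : i = 0 := by
      rcases Nat.eq_zero_or_pos i with h4 | h4
      · exact h4
      · exfalso
        have h5 := Nat.one_lt_pow h4.ne' hs.one_lt
        omega
    subst hi0
    have hj0 : 0 < j := by
      rcases Nat.eq_zero_or_pos j with h4 | h4
      · exfalso
        rw [h4, pow_zero] at hj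
        exact hW (card_eq_one.1 hj)
      · exact h4
    have h4 := (hk 0 j hj0 hjk h2).2
    exact eq_of_le_of_card_ge hWP (by rw [hj, hP, h4])
  obtain ⟨i, hi, h1, h2⟩ := card_fix hs hP hE hEP
  rcases Nat.lt_or_ge i k with hik | hik
  · exfalso
    have h3 := (hk i k hik le_rfl h2).1
    subst h3
    rw [pow_zero] at h1
    have hbot := card_eq_one.1 h1
    have hPs : IsPGroup s P := IsPGroup.of_card hP
    have hPne : P ≠ ⊥ := by
      rintro rfl
      rw [card_bot] at hP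
      have h5 := Nat.one_lt_pow hk0.ne' hs.one_lt
      omega
    -- the centre
    have hZ := key (P ⊓ centralizer (P : Set S)) inf_le_left (by
        have hnt : Nontrivial P := (nontrivial_iff_ne_bot P).2 hPne
        have h4 := hPs.center_nontrivial
        intro h5
        obtain ⟨⟨z, hz⟩, hz1⟩ := exists_ne (1 : center P)
        have h6 : (z : S) ∈ P ⊓ centralizer (P : Set S) := by
          refine ⟨z.2, mem_centralizer_iff.2 fun p hp => ?_⟩
          exact congrArg Subtype.val (mem_center_iff.1 hz ⟨p, hp⟩)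
        rw [h5, mem_bot] at h6
        exact hz1 (Subtype.ext (Subtype.ext h6))) (by
        intro e he
        have h4 := hEP he
        apply mem_normalizer_fintype
        rintro p ⟨hp1, hp2⟩
        refine ⟨(mem_normalizer_iff.1 h4 p).1 hp1, mem_centralizer_iff.2 fun q hq => ?_⟩
        have h5 : e⁻¹ * q * e ∈ P := (mem_normalizer_iff''.1 h4 q).1 hq
        have h6 := mem_centralizer_iff.1 hp2 _ h5
        calc q * (e * p * e⁻¹) = e * ((e⁻¹ * q * e) * p) * e⁻¹ := by group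
          _ = e * p * e⁻¹ * q := by rw [h6]; group) hbot
    have hcomm : ∀ a ∈ P, ∀ b ∈ P, a * b = b * a := by
      intro a ha b hb
      rw [← hZ] at hb
      exact mem_centralizer_iff.1 hb.2 a ha
    -- the elements of order `s`
    let Ω : Subgroup S :=
      { carrier := {a | a ∈ P ∧ a ^ s = 1}
        one_mem' := ⟨P.one_mem, one_pow _⟩
        mul_mem' := by
          rintro a b ⟨ha, ha'⟩ ⟨hb, hb'⟩
          refine ⟨P.mul_mem ha hb, ?_⟩
          rw [(show Commute a b from hcomm a ha b hb).mul_pow, ha', hb', one_mul]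
        inv_mem' := by
          rintro a ⟨ha, ha'⟩
          exact ⟨P.inv_mem ha, by rw [inv_pow, ha', inv_one]⟩ }
    have hΩ := key Ω (fun a ha => ha.1) (by
        have hsP : s ∣ Nat.card P := by rw [hP]; exact dvd_pow_self s hk0.ne'
        obtain ⟨a, ha⟩ := exists_prime_orderOf_dvd_card' s hsP
        intro h5
        have h6 : (a : S) ∈ Ω := ⟨a.2, by
          have h7 : a ^ s = 1 := by rw [← ha]; exact pow_orderOf_eq_one a
          exact congrArg Subtype.val h7⟩
        rw [h5, mem_bot] at h6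
        have h8 : a = 1 := Subtype.ext h6
        rw [h8, orderOf_one] at ha
        exact hs.one_lt.ne ha) (by
        intro e he
        apply mem_normalizer_fintype
        rintro p ⟨hp1, hp2⟩
        refine ⟨(mem_normalizer_iff.1 (hEP he) p).1 hp1, ?_⟩
        rw [conj_pow, hp2]; group) hbot
    -- a conjugate of `g`
    have hgp : IsPGroup s (zpowers g) := IsPGroup.of_card (n := 2) (by rw [Nat.card_zpowers, hg])
    obtain ⟨P1, hP1⟩ := hgp.exists_le_sylow
    have hcard : ∀ R : Sylow s S, Nat.card (R : Subgroup S) = s ^ k := fun R =>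
      H555.RV.card_sylow_of R hS hm
    obtain ⟨P2, hP2⟩ := hPs.exists_le_sylow
    have hP2' : P = P2 := eq_of_le_of_card_ge hP2 (by rw [hP, hcard])
    obtain ⟨c, hc⟩ := MulAction.exists_smul_eq S P1 P2
    have h9 : c * g * c⁻¹ ∈ P := by
      rw [hP2', ← hc]
      exact ⟨g, hP1 (mem_zpowers g), rfl⟩
    rw [← hΩ] at h9
    have h10 : (c * g * c⁻¹) ^ s = 1 := h9.2
    rw [conj_pow] at h10
    have h11 : g ^ s = 1 := by
      have h12 : g ^ s = c⁻¹ * (c * g ^ s * c⁻¹) * c := by group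
      rw [h12, h10]; group
    have h12 := orderOf_dvd_of_pow_eq_one h11
    rw [hg] at h12
    have h13 := Nat.le_of_dvd hs.pos h12
    have h14 : s < s ^ 2 := by
      rw [pow_two]
      exact lt_mul_of_one_lt_left hs.pos hs.one_lt
    omega
  · have h3 : P ⊓ centralizer (E : Set S) = P := eq_of_le_of_card_ge inf_le_left (by
      rw [h1, hP]; exact Nat.pow_le_pow_right hs.pos hik)
    exact inf_eq_left.1 h3

end Cfsg.Agent.H768.RM
end

-- part: H464/RM/ZTP
section
prune_inst 0x15403144064010000000051210003c36a6000590002b0001992007400c86df2300822760f0b01a041308a2a50039006002440059001000002000020041180080802b62863350ac04540097809887180c00000000000000000000000000041004000000000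
set_option linter.all false
open scoped Cfsg.Agent.FastGrp

-- part: H464/RM/ZTAct
section
/-!
# A `{2,t}`-group acting on an elementary abelian 2-group, one fixed involution (helper464)

`φ : G →* MulAut W` injective, `W` elementary abelian 2-group, `T` a Sylow 2-subgroup of the solvable `{2,t}`-group `G`,
`T` has only one fixed involution `z` on `W`, `W` is generated by the orbit of `z`, which is not a fixed point:
`t ∣ 2 ^ n - 1` with `1 ≤ n ≤ 2 ^ j`, `2 ^ j ∣ t - 1` (`act_main`).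
-/

set_option autoImplicit false
set_option linter.unusedSectionVars false

namespace Cfsg.Agent.H464.RM.ZTAct

open Subgroup

universe u v

section one

variable {U : Type v} [CommGroup U] [Finite U]

/-- fixed points of an automorphism -/
def fixA (θ : MulAut U) : Subgroup U where
  carrier := {x | θ x = x}
  one_mem' := map_one θ
  mul_mem' := fun {x y} hx hy => by
    show θ (x * y) = x * y
    rw [map_mul, show θ x = x from hx, show θ y = y from hy]
  inv_mem' := fun {x} hx => by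
    show θ x⁻¹ = x⁻¹
    rw [map_inv, show θ x = x from hx]

theorem card_step (hsq : ∀ w : U, w * w = 1) (θ : MulAut U) :
    Nat.card (fixA (θ * θ)) ≤ Nat.card (fixA θ) ^ 2 := by
  have hinv : ∀ w : U, w⁻¹ = w := fun w => by rw [inv_eq_iff_mul_eq_one, hsq w]
  let ψ : fixA (θ * θ) →* U :=
    { toFun := fun v => v * θ v
      map_one' := by simp
      map_mul' := by
        rintro ⟨v, hv⟩ ⟨w, hw⟩
        show v * w * θ (v * w) = v * θ v * (w * θ w)
        rw [map_mul]
        exact mul_mul_mul_comm v w (θ v) (θ w) }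
  have hker : Nat.card ψ.ker ≤ Nat.card (fixA θ) := by
    have hle : ψ.ker.map (fixA (θ * θ)).subtype ≤ fixA θ := by
      rintro _ ⟨⟨v, hv⟩, hk, rfl⟩
      have h1 : v * θ v = 1 := hk
      show θ v = v
      rw [eq_inv_of_mul_eq_one_right h1, hinv]
    have h2 := Subgroup.card_le_of_le hle
    rwa [Subgroup.card_map_of_injective (fixA (θ * θ)).subtype_injective] at h2
  have hrange : Nat.card ψ.range ≤ Nat.card (fixA θ) := by
    refine Subgroup.card_le_of_le ?_
    rintro _ ⟨⟨v, hv⟩, rfl⟩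
    show θ (v * θ v) = v * θ v
    have h1 : θ (θ v) = v := hv
    rw [map_mul, h1, mul_comm]
  have h3 : Nat.card (fixA (θ * θ)) = Nat.card ψ.ker * Nat.card ψ.range := by
    rw [mul_comm, ← Nat.card_congr (QuotientGroup.quotientKerEquivRange ψ).toEquiv]
    exact Subgroup.card_eq_card_quotient_mul_card_subgroup ψ.ker
  rw [h3, sq]
  exact Nat.mul_le_mul hker hrange

theorem card_le_pow (hsq : ∀ w : U, w * w = 1) : ∀ (j : ℕ) (θ : MulAut U), θ ^ 2 ^ j = 1 →
    Nat.card U ≤ Nat.card (fixA θ) ^ (2 ^ j) := by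
  intro j
  induction j with
  | zero =>
    intro θ hθ
    rw [pow_zero, pow_one] at hθ ⊢
    have h1 : fixA θ = ⊤ := by
      rw [eq_top_iff]
      intro x _
      show θ x = x
      rw [hθ]; rfl
    rw [h1, card_top]
  | succ j ih =>
    intro θ hθ
    have h1 := ih (θ * θ) (by rw [← pow_two, ← pow_mul, ← pow_succ']; exact hθ)
    calc Nat.card U ≤ Nat.card (fixA (θ * θ)) ^ 2 ^ j := h1
      _ ≤ (Nat.card (fixA θ) ^ 2) ^ 2 ^ j := Nat.pow_le_pow_left (card_step hsq θ) _
      _ = _ := by rw [← pow_mul, pow_succ' 2 j]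

end one

variable {G : Type u} {W : Type v} [Group G] [Finite G] [CommGroup W] [Finite W] (φ : G →* MulAut W)

/-- fixed points of a subgroup -/
def fx (L : Subgroup G) : Subgroup W where
  carrier := {x | ∀ b ∈ L, φ b x = x}
  one_mem' := fun b _ => map_one _
  mul_mem' := fun {x y} hx hy b hb => by rw [map_mul, hx b hb, hy b hb]
  inv_mem' := fun {x} hx b hb => by rw [map_inv, hx b hb]

/-- a normalising element preserves the fixed points -/
theorem fx_inv {L : Subgroup G} {g : G} (hg : ∀ b ∈ L, g⁻¹ * b * g ∈ L) {x : W} (hx : x ∈ fx φ L) :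
    φ g x ∈ fx φ L := by
  intro b hb
  have h1 := hx _ (hg b hb)
  rw [map_mul, map_mul, MulAut.mul_apply, MulAut.mul_apply] at h1
  have h2 : φ g (φ g⁻¹ (φ b (φ g x))) = φ b (φ g x) := by
    rw [← MulAut.mul_apply, ← map_mul, mul_inv_cancel, map_one, MulAut.one_apply]
  rw [h1] at h2
  exact h2.symm

/-- a 2-group has a fixed point `≠ 1` -/
theorem exists_fixed {D : Subgroup G} (hD : IsPGroup 2 D) (hsq : ∀ w : W, w * w = 1) {U : Subgroup W} (hU : U ≠ ⊥)
    (hinv : ∀ g ∈ D, ∀ u ∈ U, φ g u ∈ U) : ∃ u ∈ U, u ≠ 1 ∧ ∀ g ∈ D, φ g u = u := by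
  have hF : Fact (Nat.Prime 2) := ⟨Nat.prime_two⟩
  let _ : MulAction D U :=
    { smul := fun g u => ⟨φ g u, hinv g g.2 u u.2⟩
      one_smul := fun u => Subtype.ext (by show φ ((1 : D) : G) u = u; rw [OneMemClass.coe_one, map_one]; rfl)
      mul_smul := fun g h u => Subtype.ext (by
        show φ ((g * h : D) : G) u = φ g (φ h u)
        rw [Subgroup.coe_mul, map_mul]; rfl) }
  have hUp : IsPGroup 2 U := fun u => ⟨1, Subtype.ext (by
    show ((u : W)) ^ 2 ^ 1 = 1
    rw [pow_one, pow_two]; exact hsq u)⟩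
  have hd : 2 ∣ Nat.card U := by
    obtain ⟨k, hk⟩ := hUp.exists_card_eq
    rw [hk]
    refine dvd_pow_self 2 ?_
    rintro rfl
    rw [pow_zero] at hk
    exact hU (Subgroup.eq_bot_of_card_eq U hk)
  obtain ⟨b, hb, hne⟩ := hD.exists_fixed_point_of_prime_dvd_card_of_fixed_point U hd (a := 1)
    (fun g => Subtype.ext (by show φ g (1 : W) = 1; rw [map_one]))
  refine ⟨b, b.2, fun h => hne (Subtype.ext h.symm), fun g hg => ?_⟩
  exact congrArg Subtype.val (hb ⟨g, hg⟩)

/-- `t` divides `|U| - |C_U(x)|` -/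
theorem card_mod {t : ℕ} (ht : t.Prime) {x : G} (hx : x ^ t = 1) {U : Subgroup W} (hinv : ∀ u ∈ U, φ x u ∈ U)
    (hfp : ∀ u ∈ U, φ x u = u → u = 1) : Nat.card U ≡ 1 [MOD t] := by
  have hF : Fact t.Prime := ⟨ht⟩
  have hinv' : ∀ g ∈ zpowers x, ∀ u ∈ U, φ g u ∈ U := by
    intro g hg u hu
    have h1 : ∀ n : ℕ, φ (x ^ n) u ∈ U := by
      intro n
      induction n with
      | zero => rw [pow_zero, map_one]; exact hu
      | succ n ih => rw [pow_succ', map_mul]; exact hinv _ ih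
    obtain ⟨n, rfl⟩ := (mem_powers_iff_mem_zpowers.2 hg : g ∈ Submonoid.powers x)
    exact h1 n
  let _ : MulAction (zpowers x) U :=
    { smul := fun g u => ⟨φ g u, hinv' g g.2 u u.2⟩
      one_smul := fun u => Subtype.ext (by
        show φ ((1 : zpowers x) : G) u = u; rw [OneMemClass.coe_one, map_one]; rfl)
      mul_smul := fun g h u => Subtype.ext (by
        show φ ((g * h : zpowers x) : G) u = φ g (φ h u)
        rw [Subgroup.coe_mul, map_mul]; rfl) }
  have hX : IsPGroup t (zpowers x) := by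
    rw [IsPGroup.iff_card, Nat.card_zpowers]
    rcases (Nat.dvd_prime ht).1 (orderOf_dvd_of_pow_eq_one hx) with h | h
    · exact ⟨0, by rw [h, pow_zero]⟩
    · exact ⟨1, by rw [h, pow_one]⟩
  have h1 := hX.card_modEq_card_fixedPoints U
  have h2 : Nat.card (MulAction.fixedPoints (zpowers x) U) = 1 := by
    rw [Nat.card_eq_one_iff_unique]
    refine ⟨⟨?_⟩, ⟨⟨1, fun g => Subtype.ext (by show φ g (1 : W) = 1; rw [map_one])⟩⟩⟩
    have key : ∀ a : MulAction.fixedPoints (zpowers x) U, a.1.1 = 1 := by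
      intro a
      have h3 := a.2 ⟨x, mem_zpowers x⟩
      exact hfp _ a.1.2 (congrArg Subtype.val h3)
    intro a b
    exact Subtype.ext (Subtype.ext ((key a).trans (key b).symm))
  rwa [h2] at h1

/-! ### the trace -/

section trace

variable {A : Subgroup G}

/-- the norm of `A` -/
noncomputable def nm (A : Subgroup G) [Fintype A] (w : W) : W := ∏ a : A, φ a w

variable [Fintype A]

theorem nm_mul (v w : W) : nm φ A (v * w) = nm φ A v * nm φ A w := by
  unfold nm
  rw [← Finset.prod_mul_distrib]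
  exact Finset.prod_congr rfl fun a _ => map_mul _ _ _

theorem nm_one : nm φ A 1 = 1 := by
  unfold nm
  exact Finset.prod_eq_one fun a _ => map_one _

theorem nm_prod {ι : Type*} (s : Finset ι) (f : ι → W) : nm φ A (∏ i ∈ s, f i) = ∏ i ∈ s, nm φ A (f i) := by
  classical
  induction s using Finset.induction_on with
  | empty => rw [Finset.prod_empty, Finset.prod_empty, nm_one]
  | insert i s hi ih => rw [Finset.prod_insert hi, Finset.prod_insert hi, nm_mul, ih]

theorem nm_mem (w : W) : nm φ A w ∈ fx φ A := by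
  intro b hb
  unfold nm
  rw [map_prod]
  calc ∏ a : A, φ b (φ a w) = ∏ a : A, φ (((⟨b, hb⟩ * a : A) : G)) w :=
        Finset.prod_congr rfl fun a _ => by rw [Subgroup.coe_mul, map_mul]; rfl
    _ = ∏ a : A, φ a w := Equiv.prod_comp (Equiv.mulLeft (⟨b, hb⟩ : A)) (fun a : A => φ a w)

theorem nm_comm {y : G} (hy : ∀ a ∈ A, y * a = a * y) {w : W} (hw : φ y w = w) : φ y (nm φ A w) = nm φ A w := by
  unfold nm
  rw [map_prod]
  refine Finset.prod_congr rfl fun a _ => ?_
  rw [← MulAut.mul_apply, ← map_mul, hy a a.2, map_mul, MulAut.mul_apply, hw]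

theorem nm_eq (hsq : ∀ w : W, w * w = 1) (hA : ¬ 2 ∣ Nat.card A) {w : W} (hw : w ∈ fx φ A) : nm φ A w = w := by
  unfold nm
  rw [Finset.prod_congr rfl fun (a : A) _ => hw a a.2, Finset.prod_const, Finset.card_univ, ← Nat.card_eq_fintype_card]
  obtain ⟨k, hk⟩ : ∃ k, Nat.card A = 2 * k + 1 := ⟨Nat.card A / 2, by omega⟩
  rw [hk, pow_succ, pow_mul, pow_two, hsq w, one_pow, one_mul]

end trace

/-- **the fixed points of `N_T(A)` on `C_W(A)` are `1` and `nm A z`** -/
theorem fix_small {A Z T : Subgroup G} [Fintype A] (hZc : ∀ x ∈ Z, ∀ y ∈ Z, x * y = y * x) (hZn : Z.Normal)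
    (hAZ : A ≤ Z) (hmax : ∀ y ∈ Z, y ∉ A → ∀ w ∈ fx φ A, φ y w = w → w = 1) (hsq : ∀ w : W, w * w = 1)
    (hA : ¬ 2 ∣ Nat.card A) {z : W} (hu : ∀ w : W, (∀ g ∈ T, φ g w = w) → w = 1 ∨ w = z)
    {u : W} (hu1 : u ∈ fx φ A) (hu2 : ∀ g ∈ T, g ∈ normalizer (A : Set G) → φ g u = u) :
    u = 1 ∨ u = nm φ A z := by
  classical
  set TA : Subgroup T := (normalizer (A : Set G)).subgroupOf T with hTA
  let f : T ⧸ TA → W := Quotient.lift (s := QuotientGroup.leftRel TA) (fun g : T => φ (g : G) u) (by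
    intro g h hgh
    have h1 : g⁻¹ * h ∈ TA := QuotientGroup.leftRel_apply.1 hgh
    have h2 : φ ((g⁻¹ * h : T) : G) u = u := hu2 _ (g⁻¹ * h).2 (mem_subgroupOf.1 h1)
    show φ (g : G) u = φ (h : G) u
    have h3 : (h : G) = g * ((g⁻¹ * h : T) : G) := by
      rw [← Subgroup.coe_mul, mul_inv_cancel_left]
    rw [h3, map_mul, MulAut.mul_apply, h2])
  have hf : ∀ g : T, f (QuotientGroup.mk g) = φ (g : G) u := fun g => rfl
  let _ : Fintype (T ⧸ TA) := Fintype.ofFinite _
  set tr : W := ∏ q : T ⧸ TA, f q with htr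
  have hinv : ∀ h ∈ T, φ h tr = tr := by
    intro h hh
    rw [htr, map_prod]
    calc ∏ q : T ⧸ TA, φ h (f q) = ∏ q : T ⧸ TA, f ((⟨h, hh⟩ : T) • q) := by
          refine Finset.prod_congr rfl fun q _ => ?_
          obtain ⟨g, rfl⟩ := QuotientGroup.mk_surjective q
          show φ h (φ (g : G) u) = φ ((((⟨h, hh⟩ : T) * g : T)) : G) u
          rw [Subgroup.coe_mul, map_mul]; rfl
      _ = ∏ q : T ⧸ TA, f q := Equiv.prod_comp (MulAction.toPerm (⟨h, hh⟩ : T)) f
  have hnm : nm φ A tr = u := by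
    rw [htr, nm_prod, Fintype.prod_eq_single (QuotientGroup.mk (1 : T))]
    · rw [hf, OneMemClass.coe_one, map_one]
      exact nm_eq φ hsq hA hu1
    · intro q hq
      obtain ⟨g, rfl⟩ := QuotientGroup.mk_surjective q
      rw [hf]
      have h1 : (g : G) ∉ normalizer (A : Set G) := by
        intro h2
        apply hq
        refine QuotientGroup.eq.2 ?_
        rw [mul_one]
        exact TA.inv_mem (mem_subgroupOf.2 h2)
      obtain ⟨x, hx, hxA⟩ : ∃ x ∈ A, (g : G) * x * (g : G)⁻¹ ∉ A := by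
        by_contra hcon
        push Not at hcon
        exact h1 (mem_normalizer_fintype hcon)
      have hyZ : (g : G) * x * (g : G)⁻¹ ∈ Z := hZn.conj_mem x (hAZ hx) g
      refine hmax _ hyZ hxA _ (nm_mem φ _) (nm_comm φ (fun a ha => hZc _ hyZ _ (hAZ ha)) ?_)
      rw [← MulAut.mul_apply, ← map_mul, inv_mul_cancel_right, map_mul, MulAut.mul_apply, hu1 x hx]
  rcases hu tr hinv with h | h
  · left; rw [← hnm, h, nm_one]
  · right; rw [← hnm, h]

theorem act_main {t : ℕ} (ht : t.Prime) (ht2 : t ≠ 2) (hsq : ∀ w : W, w * w = 1) (hφ : Function.Injective φ)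
    (hsol : Group.IsSolvable G) (hG : ∀ p : ℕ, p.Prime → p ∣ Nat.card G → p = 2 ∨ p = t)
    {T : Subgroup G} (hTp : IsPGroup 2 T) (hTi : ¬ 2 ∣ T.index) {z : W} (hzT : ∀ g ∈ T, φ g z = z)
    (hu : ∀ w : W, (∀ g ∈ T, φ g w = w) → w = 1 ∨ w = z)
    (hgen : ∀ U : Subgroup W, z ∈ U → (∀ g : G, ∀ u ∈ U, φ g u ∈ U) → U = ⊤)
    (hG1 : ∃ g : G, φ g z ≠ z) :
    ∃ n j : ℕ, 1 ≤ n ∧ n ≤ 2 ^ j ∧ 2 ^ j ∣ t - 1 ∧ t ∣ 2 ^ n - 1 := by
  classical
  have hF : Fact (Nat.Prime 2) := ⟨Nat.prime_two⟩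
  have hFt : Fact t.Prime := ⟨ht⟩
  obtain ⟨g₁, hg₁⟩ := hG1
  -- invariant subgroups
  have hfxn : ∀ L : Subgroup G, L.Normal → ∀ g : G, ∀ u ∈ fx φ L, φ g u ∈ fx φ L := fun L hL g u hu' =>
    fx_inv φ (fun b hb => by simpa using hL.conj_mem b hb g⁻¹) hu'
  have hkey : ∀ L : Subgroup G, L.Normal → z ∈ fx φ L → L = ⊥ := by
    intro L hL hz
    have h1 := hgen _ hz (hfxn L hL)
    rw [eq_bot_iff]
    intro g hg
    refine mem_bot.2 (hφ ?_)
    ext w
    have h2 : w ∈ fx φ L := by rw [h1]; exact mem_top w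
    rw [map_one]; exact h2 g hg
  -- no normal 2-subgroup
  have hO : ∀ L : Subgroup G, L.Normal → IsPGroup 2 L → L = ⊥ := by
    intro L hL hLp
    refine hkey L hL fun b hb => hzT b ?_
    have h1 : IsPGroup 2 (T ⊔ L : Subgroup G) := hTp.to_sup_of_normal_right hLp
    have h2 : (T ⊔ L : Subgroup G) = T := by
      have h3 := (hTp.toSylow hTi).is_maximal' h1 (by rw [IsPGroup.toSylow_coe]; exact le_sup_left)
      rw [IsPGroup.toSylow_coe] at h3
      exact h3
    rw [← h2]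
    exact (le_sup_right : L ≤ T ⊔ L) hb
  have hne : Nat.card G ≠ 1 := by
    intro h
    have h1 : g₁ = 1 := by
      have := (Nat.card_eq_one_iff_unique.1 h).1
      exact Subsingleton.elim _ _
    rw [h1, map_one] at hg₁
    exact hg₁ rfl
  obtain ⟨s, hs, R, hRn, hR1, hRs⟩ := Cfsg.Agent.H571.DExt.exists_normal_pgroup G hne hsol
  have hFs : Fact s.Prime := ⟨hs⟩
  have hst : s = t := by
    obtain ⟨k, hk⟩ := hRs.exists_card_eq
    have hk0 : k ≠ 0 := by
      rintro rfl
      rw [pow_zero] at hk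
      exact hR1 (Subgroup.eq_bot_of_card_eq R hk)
    have h1 : s ∣ Nat.card G := by
      refine Dvd.dvd.trans ?_ (card_subgroup_dvd_card R)
      rw [hk]; exact dvd_pow_self s hk0
    rcases hG s hs h1 with h | h
    · subst h
      exact absurd (hO R hRn hRs) hR1
    · exact h
  subst hst
  -- the elementary abelian normal subgroup `Z`
  let Z : Subgroup G :=
    { carrier := {v | v ∈ R ∧ (∀ n ∈ R, n * v = v * n) ∧ v ^ s = 1}
      mul_mem' := by
        rintro v w ⟨hv, hv1, hv2⟩ ⟨hw, hw1, hw2⟩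
        refine ⟨R.mul_mem hv hw, fun n hn => ?_, ?_⟩
        · calc n * (v * w) = (n * v) * w := by group
            _ = v * (n * w) := by rw [hv1 n hn]; group
            _ = v * w * n := by rw [hw1 n hn]; group
        · rw [(show Commute v w from hw1 v hv).mul_pow, hv2, hw2, one_mul]
      one_mem' := ⟨R.one_mem, fun n _ => by rw [mul_one, one_mul], one_pow _⟩
      inv_mem' := by
        rintro v ⟨hv, hv1, hv2⟩
        exact ⟨R.inv_mem hv, fun n hn => ((show Commute n v from hv1 n hn).inv_right).eq, by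
          rw [inv_pow, hv2, inv_one]⟩ }
  have hZR : Z ≤ R := fun x hx => hx.1
  have hZt : ∀ x ∈ Z, x ^ s = 1 := fun x hx => hx.2.2
  have hZc : ∀ x ∈ Z, ∀ y ∈ Z, x * y = y * x := fun x hx y hy => hy.2.1 x hx.1
  have hZn : Z.Normal := by
    refine ⟨?_⟩
    rintro v ⟨hv, hv1, hv2⟩ g
    refine ⟨hRn.conj_mem v hv g, fun n hn => ?_, ?_⟩
    · have h1 := hv1 (g⁻¹ * n * g) (by simpa using hRn.conj_mem n hn g⁻¹)
      calc n * (g * v * g⁻¹) = g * ((g⁻¹ * n * g) * v) * g⁻¹ := by group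
        _ = g * (v * (g⁻¹ * n * g)) * g⁻¹ := by rw [h1]
        _ = _ := by group
    · rw [conj_pow, hv2, mul_one, mul_inv_cancel]
  have hZ1 : Z ≠ ⊥ := by
    have hnt : Nontrivial R := (Subgroup.nontrivial_iff_ne_bot _).mpr hR1
    have h1 := hRs.center_nontrivial
    obtain ⟨k, hk⟩ := (hRs.to_subgroup (center R)).exists_card_eq
    have hk0 : k ≠ 0 := by
      rintro rfl
      rw [pow_zero] at hk
      have := Finite.one_lt_card (α := center R)
      omega
    obtain ⟨w, hw⟩ := exists_prime_orderOf_dvd_card' (G := center R) s (by rw [hk]; exact dvd_pow_self s hk0)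
    intro h2
    have h3 : ((w : R) : G) ∈ Z := by
      refine ⟨(w : R).2, fun n hn => congrArg Subtype.val (mem_center_iff.mp w.2 ⟨n, hn⟩), ?_⟩
      have h4 : w ^ s = 1 := by rw [← hw]; exact pow_orderOf_eq_one w
      exact congrArg (fun y : center R => ((y : R) : G)) h4
    rw [h2] at h3
    have h4 : w = 1 := Subtype.ext (Subtype.ext (mem_bot.1 h3))
    rw [h4, orderOf_one] at hw
    exact hs.one_lt.ne hw
  have hfZ : fx φ Z = ⊥ := by
    by_contra hcon
    obtain ⟨u, hu1, hu2, hu3⟩ := exists_fixed φ hTp hsq hcon (fun g _ => hfxn Z hZn g)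
    rcases hu u hu3 with h | h
    · exact hu2 h
    · exact hZ1 (hkey Z hZn (h ▸ hu1))
  -- the hyperplane
  obtain ⟨B, hB, hBfix⟩ : ∃ B : Subgroup Z, B.index = s ∧ ∃ w : W, w ≠ 1 ∧ ∀ b ∈ B, φ (b : G) w = w := by
    by_contra hcon
    push Not at hcon
    let _ : CommGroup Z := { (inferInstance : Group Z) with mul_comm := fun a b => Subtype.ext (hZc a a.2 b b.2) }
    have hnt : Nontrivial Z := (Subgroup.nontrivial_iff_ne_bot _).mpr hZ1
    have hWp : IsPGroup 2 W := fun w => ⟨1, by rw [pow_one, pow_two]; exact hsq w⟩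
    have h1 := Cfsg.Agent.Lib.CoprimeHyperplane.iSup_fix_eq_top_of_isPGroup (A := Z) (R := W) (φ.comp Z.subtype)
      (p := s) (q := 2) ht2 (fun a => Subtype.ext (hZt a a.2)) hWp
    have h2 : (⊤ : Subgroup W) ≤ ⊥ := by
      rw [← h1]
      refine iSup_le fun B => ?_
      intro w hw
      by_contra hw1
      obtain ⟨b, hb, hbw⟩ := hcon B.1 B.2 w (fun h => hw1 (mem_bot.2 h))
      exact hbw (hw b hb)
    have h3 : z = 1 := mem_bot.1 (h2 (mem_top z))
    rw [h3, map_one] at hg₁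
    exact hg₁ rfl
  set A : Subgroup G := B.map Z.subtype with hA
  have hAZ : A ≤ Z := map_subtype_le _
  have hAi : A.relIndex Z = s := by
    rw [← hB, hA]
    unfold relIndex
    congr 1
    exact comap_map_eq_self_of_injective (subtype_injective Z) B
  have hfA : fx φ A ≠ ⊥ := by
    obtain ⟨w, hw, hwb⟩ := hBfix
    intro h
    apply hw
    have h1 : w ∈ fx φ A := by
      rintro _ ⟨b, hb, rfl⟩
      exact hwb b hb
    rw [h] at h1
    exact mem_bot.1 h1
  have hmax : ∀ y ∈ Z, y ∉ A → ∀ w ∈ fx φ A, φ y w = w → w = 1 := by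
    intro y hy hyA w hw hyw
    set M := A ⊔ zpowers y with hM
    have hAM : A ≤ M := le_sup_left
    have hMZ : M ≤ Z := sup_le hAZ (zpowers_le.2 hy)
    have h1 := relIndex_mul_relIndex A M Z hAM hMZ
    rw [hAi] at h1
    have h2 : A.relIndex M ≠ 1 := by
      rw [Ne, relIndex_eq_one]
      intro h3
      exact hyA (h3 ((le_sup_right : zpowers y ≤ M) (mem_zpowers y)))
    have h3 : A.relIndex M = s := by
      rcases (Nat.dvd_prime ht).1 (Dvd.intro _ h1) with h4 | h4
      · exact absurd h4 h2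
      · exact h4
    have h4 : M.relIndex Z = 1 := by
      rw [h3] at h1
      exact Nat.eq_of_mul_eq_mul_left ht.pos (by rw [h1, mul_one])
    rw [relIndex_eq_one] at h4
    let St : Subgroup G :=
      { carrier := {g | φ g w = w}
        mul_mem' := fun {a b} ha hb => by
          show φ (a * b) w = w
          rw [map_mul, MulAut.mul_apply, show φ b w = w from hb, show φ a w = w from ha]
        one_mem' := by show φ 1 w = w; rw [map_one]; rfl
        inv_mem' := fun {a} ha => by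
          show φ a⁻¹ w = w
          have h5 : φ a w = w := ha
          calc φ a⁻¹ w = φ a⁻¹ (φ a w) := by rw [h5]
            _ = w := by rw [← MulAut.mul_apply, ← map_mul, inv_mul_cancel, map_one]; rfl }
    have h5 : M ≤ St := sup_le hw (zpowers_le.2 hyw)
    have h6 : w ∈ fx φ Z := fun b hb => h5 (h4 hb)
    rw [hfZ] at h6
    exact mem_bot.1 h6
  let _ : Fintype A := Fintype.ofFinite _
  have hsodd : ¬ 2 ∣ s := fun h => ht2 ((Nat.prime_dvd_prime_iff_eq Nat.prime_two ht).1 h).symm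
  have hA2 : ¬ 2 ∣ Nat.card A := by
    obtain ⟨k, hk⟩ := (hRs.to_le (hAZ.trans hZR)).exists_card_eq
    rw [hk]
    exact fun h => hsodd (Nat.prime_two.dvd_of_dvd_pow h)
  set N := normalizer (A : Set G) with hN
  have hfix : ∀ u ∈ fx φ A, (∀ g ∈ T, g ∈ N → φ g u = u) → u = 1 ∨ u = nm φ A z := fun u hu1 hu2 =>
    fix_small φ hZc hZn hAZ hmax hsq hA2 hu hu1 hu2
  have hZN : Z ≤ N := by
    intro x hx
    apply mem_normalizer_fintype
    intro a ha
    rw [hZc x hx a (hAZ ha), mul_inv_cancel_right]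
    exact ha
  have hNinv : ∀ g ∈ N, ∀ u ∈ fx φ A, φ g u ∈ fx φ A := fun g hg u hu1 =>
    fx_inv φ (fun b hb => by
      have := (mem_normalizer_iff.1 (N.inv_mem hg) b).1 hb
      rwa [inv_inv] at this) hu1
  -- the action on `Z / A`
  set A' : Subgroup N := A.subgroupOf N with hA'
  have hA'n : A'.Normal := normal_in_normalizer
  set Zb : Subgroup (N ⧸ A') := (Z.subgroupOf N).map (QuotientGroup.mk' A') with hZb
  have hZbn : Zb.Normal := Normal.map inferInstance _ (QuotientGroup.mk'_surjective A')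
  have hZbc : Nat.card Zb = s := by
    have h1 := Cfsg.Agent.Solvable.Hall.card_map_mk A' (Z.subgroupOf N)
    have h2 : Nat.card (Z.subgroupOf N) = Nat.card Z := Nat.card_congr (subgroupOfEquivOfLe hZN).toEquiv
    have h3 : Nat.card (A' ⊓ Z.subgroupOf N : Subgroup N) = Nat.card A := by
      have h4 : (A' ⊓ Z.subgroupOf N : Subgroup N) = A' := inf_eq_left.2 fun x hx => hAZ hx
      rw [h4]
      exact Nat.card_congr (subgroupOfEquivOfLe (hAZ.trans hZN)).toEquiv
    rw [h2, h3, ← hZb] at h1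
    have h4 := (A.subgroupOf Z).card_mul_index
    have h5 : (A.subgroupOf Z).index = s := hAi
    rw [h5, Nat.card_congr (subgroupOfEquivOfLe hAZ).toEquiv] at h4
    apply Nat.eq_of_mul_eq_mul_right (Nat.card_pos (α := A))
    rw [h1, ← h4, mul_comm]
  set TN : Subgroup G := T ⊓ N with hTN
  have hTNp : IsPGroup 2 TN := hTp.to_le inf_le_left
  let f : TN →* MulAut Zb := (MulAut.conjNormal (H := Zb)).comp
    ((QuotientGroup.mk' A').comp (inclusion (inf_le_right : TN ≤ N)))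
  have hfk : ∀ g : TN, f g = 1 → ∀ x ∈ Z, x⁻¹ * ((g : G) * x * (g : G)⁻¹) ∈ A := by
    intro g hg x hx
    have h1 := DFunLike.congr_fun hg ⟨QuotientGroup.mk' A' ⟨x, hZN hx⟩, ⟨⟨x, hZN hx⟩, hx, rfl⟩⟩
    have h2 := congrArg Subtype.val h1
    have h3 : QuotientGroup.mk' A' (inclusion (inf_le_right : TN ≤ N) g) * QuotientGroup.mk' A' ⟨x, hZN hx⟩ *
        (QuotientGroup.mk' A' (inclusion (inf_le_right : TN ≤ N) g))⁻¹ = QuotientGroup.mk' A' ⟨x, hZN hx⟩ := h2
    rw [← map_inv, ← map_mul, ← map_mul] at h3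
    exact mem_subgroupOf.1 (QuotientGroup.eq.1 h3.symm)
  have hcyc : IsCyclic Zb := isCyclic_of_prime_card hZbc
  have hcycM : IsCyclic (MulAut Zb) := by
    have hZ : IsCyclic (ZMod (Nat.card Zb))ˣ := by rw [hZbc]; exact ZMod.isCyclic_units_prime ht
    exact isCyclic_of_injective (IsCyclic.mulAutMulEquiv Zb).toMonoidHom (IsCyclic.mulAutMulEquiv Zb).injective
  have hcycR : IsCyclic f.range := inferInstance
  obtain ⟨⟨_, ⟨h, rfl⟩⟩, hgenr⟩ := hcycR.exists_generator
  obtain ⟨j, hj⟩ := (hTNp.of_surjective f.rangeRestrict f.rangeRestrict_surjective).exists_card_eq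
  have hjd : 2 ^ j ∣ s - 1 := by
    have h1 : 2 ^ j ∣ Nat.card (MulAut Zb) := by rw [← hj]; exact card_subgroup_dvd_card _
    rwa [hcyc.card_mulAut, hZbc, Nat.totient_prime ht] at h1
  have hpow : f (h ^ 2 ^ j) = 1 := by
    have h1 : (⟨f h, ⟨h, rfl⟩⟩ : f.range) ^ Nat.card f.range = 1 := pow_card_eq_one'
    rw [hj] at h1
    rw [map_pow]
    exact congrArg Subtype.val h1
  have hgen' : ∀ g : TN, ∃ (k : ℤ) (d : TN), f d = 1 ∧ g = h ^ k * d := by
    intro g
    obtain ⟨k, hk⟩ := mem_zpowers_iff.1 (hgenr ⟨f g, ⟨g, rfl⟩⟩)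
    have hk' : f h ^ k = f g := congrArg Subtype.val hk
    refine ⟨k, (h ^ k)⁻¹ * g, ?_, by group⟩
    rw [map_mul, map_inv, map_zpow, hk', inv_mul_cancel]
  -- the kernel `D`
  set D : Subgroup G := f.ker.map TN.subtype with hD
  have hDp : IsPGroup 2 D := (hTNp.to_subgroup f.ker).map _
  have hDN : ∀ d ∈ D, d ∈ N := by
    rintro _ ⟨d, -, rfl⟩
    exact d.2.2
  set U : Subgroup W := fx φ A ⊓ fx φ D with hU
  have hU1 : U ≠ ⊥ := by
    obtain ⟨u, hu1, hu2, hu3⟩ := exists_fixed φ hDp hsq hfA (fun g hg => hNinv g (hDN g hg))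
    intro h
    apply hu2
    have h1 : u ∈ U := ⟨hu1, hu3⟩
    rw [h] at h1
    exact mem_bot.1 h1
  have hUinv : ∀ g : TN, ∀ u ∈ U, φ (g : G) u ∈ U := by
    rintro g u ⟨hu1, hu2⟩
    refine ⟨hNinv g g.2.2 u hu1, fx_inv φ ?_ hu2⟩
    rintro _ ⟨d, hd, rfl⟩
    refine ⟨g⁻¹ * d * g, ?_, rfl⟩
    rw [SetLike.mem_coe, MonoidHom.mem_ker] at hd ⊢
    rw [map_mul, map_mul, hd, mul_one, ← map_mul, inv_mul_cancel, map_one]
  let θ : MulAut U :=
    { toFun := fun u => ⟨φ (h : G) u, hUinv h u u.2⟩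
      invFun := fun u => ⟨φ ((h⁻¹ : TN) : G) u, hUinv h⁻¹ u u.2⟩
      left_inv := fun u => Subtype.ext (by
        show φ ((h⁻¹ : TN) : G) (φ (h : G) u) = u
        rw [← MulAut.mul_apply, ← map_mul, ← Subgroup.coe_mul, inv_mul_cancel, OneMemClass.coe_one, map_one]; rfl)
      right_inv := fun u => Subtype.ext (by
        show φ (h : G) (φ ((h⁻¹ : TN) : G) u) = u
        rw [← MulAut.mul_apply, ← map_mul, ← Subgroup.coe_mul, mul_inv_cancel, OneMemClass.coe_one, map_one]; rfl)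
      map_mul' := fun u v => Subtype.ext (map_mul (φ (h : G)) (u : W) (v : W)) }
  have hθ : ∀ (n : ℕ) (u : U), (((θ ^ n) u : U) : W) = φ ((h ^ n : TN) : G) (u : W) := by
    intro n
    induction n with
    | zero => intro u; rw [pow_zero, pow_zero, OneMemClass.coe_one, map_one]; rfl
    | succ n ih =>
      intro u
      rw [pow_succ', pow_succ', MulAut.mul_apply, Subgroup.coe_mul, map_mul, MulAut.mul_apply, ← ih u]
      rfl
  have hθ1 : θ ^ 2 ^ j = 1 := by
    ext u
    rw [hθ]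
    exact u.2.2 _ ⟨h ^ 2 ^ j, MonoidHom.mem_ker.2 hpow, rfl⟩
  have hsqU : ∀ w : U, w * w = 1 := fun w => Subtype.ext (hsq w)
  have h1 := card_le_pow hsqU j θ hθ1
  have h2 : Nat.card (fixA θ) ≤ 2 := by
    have h3 : ∀ u ∈ (fixA θ).map U.subtype, u = 1 ∨ u = nm φ A z := by
      rintro _ ⟨u, hu1, rfl⟩
      have hu1 : φ (h : G) (u : W) = u := congrArg Subtype.val (show θ u = u from hu1)
      refine hfix _ u.2.1 fun g hgT hgN => ?_
      obtain ⟨k, d, hd, hkd⟩ := hgen' ⟨g, hgT, hgN⟩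
      have h4 : g = (h : G) ^ k * (d : G) := by
        have := congrArg Subtype.val hkd
        simpa using this
      have h5 : φ (d : G) (u : W) = u := u.2.2 _ ⟨d, MonoidHom.mem_ker.2 hd, rfl⟩
      let St : Subgroup G :=
        { carrier := {g | φ g (u : W) = u}
          mul_mem' := fun {a b} ha hb => by
            show φ (a * b) (u : W) = u
            rw [map_mul, MulAut.mul_apply, show φ b (u : W) = u from hb, show φ a (u : W) = u from ha]
          one_mem' := by show φ 1 (u : W) = u; rw [map_one]; rfl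
          inv_mem' := fun {a} ha => by
            show φ a⁻¹ (u : W) = u
            have h5 : φ a (u : W) = u := ha
            calc φ a⁻¹ (u : W) = φ a⁻¹ (φ a (u : W)) := by rw [h5]
              _ = u := by rw [← MulAut.mul_apply, ← map_mul, inv_mul_cancel, map_one]; rfl }
      have h6 : (h : G) ∈ St := hu1
      have h7 : (d : G) ∈ St := h5
      show φ g (u : W) = u
      rw [h4]
      exact St.mul_mem (St.zpow_mem h6 k) h7
    rw [← card_map_of_injective (subtype_injective U)]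
    have h4 : Set.ncard (((fixA θ).map U.subtype : Subgroup W) : Set W) ≤ Set.ncard ({1, nm φ A z} : Set W) :=
      Set.ncard_le_ncard (fun v hv => by
        rcases h3 v hv with h | h
        · exact Or.inl h
        · exact Or.inr h)
    exact h4.trans (Set.ncard_insert_le _ _ |>.trans (by rw [Set.ncard_singleton]))
  have hUp : IsPGroup 2 U := fun u => ⟨1, by rw [pow_one, pow_two]; exact hsqU u⟩
  obtain ⟨n, hn⟩ := hUp.exists_card_eq
  refine ⟨n, j, ?_, ?_, hjd, ?_⟩
  · rcases Nat.eq_zero_or_pos n with h0 | h0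
    · rw [h0, pow_zero] at hn
      exact absurd (Subgroup.eq_bot_of_card_eq U hn) hU1
    · exact h0
  · have h3 := h1.trans (Nat.pow_le_pow_left h2 _)
    rw [hn] at h3
    exact (Nat.pow_le_pow_iff_right (by norm_num)).1 h3
  · obtain ⟨x, hxZ, hxA⟩ : ∃ x ∈ Z, x ∉ A := by
      by_contra hcon
      push Not at hcon
      have h3 : A.relIndex Z = 1 := relIndex_eq_one.2 hcon
      rw [hAi] at h3
      exact ht.one_lt.ne' h3
    have hxinv : ∀ u ∈ U, φ x u ∈ U := by
      rintro u ⟨hu1, hu2⟩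
      refine ⟨hNinv x (hZN hxZ) u hu1, ?_⟩
      rintro _ ⟨d, hd, rfl⟩
      have h4 := hfk d (MonoidHom.mem_ker.1 hd) x hxZ
      have h5 : φ (d : G) u = u := hu2 _ ⟨d, hd, rfl⟩
      show φ (d : G) (φ x u) = φ x u
      have h6 : (d : G) * x = x * (x⁻¹ * ((d : G) * x * (d : G)⁻¹)) * (d : G) := by group
      rw [← MulAut.mul_apply, ← map_mul, h6, map_mul, map_mul, MulAut.mul_apply, MulAut.mul_apply, h5,
        hu1 _ h4]
    have h3 := card_mod φ ht (hZt x hxZ) hxinv (fun u hu1 hu2 => hmax x hxZ hxA u hu1.1 hu2)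
    rw [hn] at h3
    exact (Nat.modEq_iff_dvd' (Nat.one_le_pow _ _ (by norm_num))).1 h3.symm

end Cfsg.Agent.H464.RM.ZTAct
end

-- part: H464/RM/ZTP
section
/-!
# Groups of order `2^a t^b` with a unique central involution in the Sylow 2-subgroup (helper464, after helper171)

`no_ztp` : `|S| = 2 ^ a * t ^ b * m`, the Sylow 2-subgroups have a unique central involution `z` (`ZT S M`), `t ^ b ∤ |C(z)|`,
`2 ^ a ∤ |GL_b(t)|` and `t ∤ 2 ^ n - 1` for `n ≤ 2 ^ j ∣ t - 1` : no Hall `{2,t}`-subgroup.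
`no_ztp'` : with a numerical check.
-/

set_option autoImplicit false

namespace Cfsg.Agent.H464.RM

open Subgroup Cfsg Cfsg.Agent.H571.DExt Cfsg.Agent.H988.CPi Cfsg.Agent.Solvable.SZ
open Cfsg.Agent.H171.Odd (Inv1 not_dvd_index_map card_pgroup card_sylow card_dvd_kernel)
open Cfsg.Agent.H171.RV.TwoP (ZT)

universe u

theorem ztp_main {K : Type u} [Group K] [Finite K] {t a b : ℕ} (ht : t.Prime) (ht2 : t ≠ 2)
    (hK : Nat.card K = 2 ^ a * t ^ b) {T : Subgroup K} (hT : Nat.card T = 2 ^ a) {z : K} (hzT : z ∈ T) (hz1 : z ≠ 1)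
    (hzz : z * z = 1) (hzc : ∀ t ∈ T, t * z = z * t)
    (huniq : ∀ w ∈ T, w * w = 1 → (∀ t ∈ T, t * w = w * t) → w = 1 ∨ w = z)
    (w : ℕ → ℕ) (hw : ∀ k, 1 ≤ k → k ≤ b → ¬ 2 ^ (w k + 1) ∣ t ^ k - 1)
    (hW : ∑ i ∈ Finset.range b, w (i + 1) < a) (hcz : ¬ t ^ b ∣ Nat.card (centralizer ({z} : Set K))) :
    ∃ n j : ℕ, 1 ≤ n ∧ n ≤ 2 ^ j ∧ 2 ^ j ∣ t - 1 ∧ t ∣ 2 ^ n - 1 := by
  have hF : Fact (Nat.Prime 2) := ⟨Nat.prime_two⟩
  have hFp : Fact t.Prime := ⟨ht⟩
  have hsol : Group.IsSolvable K := S0144.result 2 t a b Nat.prime_two ht hK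
  have hTp : IsPGroup 2 T := IsPGroup.of_card hT
  have hTidx : T.index = t ^ b := by
    have h1 := T.card_mul_index
    rw [hT, hK] at h1
    exact Nat.eq_of_mul_eq_mul_left (by positivity) h1
  have hTi : ¬ 2 ∣ T.index := by
    rw [hTidx]
    exact fun h => ht2 ((Nat.prime_dvd_prime_iff_eq Nat.prime_two ht).1 (Nat.prime_two.dvd_of_dvd_pow h)).symm
  set N := T.normalCore with hN
  have hNT : N ≤ T := Subgroup.normalCore_le T
  have hNN : N.Normal := inferInstance
  -- normal 2-subgroups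
  have hmax : ∀ M : Subgroup K, M.Normal → IsPGroup 2 M → M ≤ N := by
    intro M hM hMp
    refine Subgroup.normal_le_normalCore.mpr ?_
    have h1 : IsPGroup 2 (T ⊔ M : Subgroup K) := hTp.to_sup_of_normal_right hMp
    have h2 : (T ⊔ M : Subgroup K) = T := by
      have h3 := (hTp.toSylow hTi).is_maximal' h1 (by rw [IsPGroup.toSylow_coe]; exact le_sup_left)
      rw [IsPGroup.toSylow_coe] at h3
      exact h3
    rw [← h2]
    exact le_sup_right
  have hN1 : N ≠ ⊥ := by
    intro hNb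
    have hOt : pPrimeCore t K = ⊥ := by
      have h3 := Lib.Cores.pPrimeCore_coprime (G := K) t
      have h4 : Nat.card (pPrimeCore t K) ∣ 2 ^ a := by
        have h5 : Nat.card (pPrimeCore t K) ∣ 2 ^ a * t ^ b := by rw [← hK]; exact card_subgroup_dvd_card _
        exact (Nat.Coprime.pow_right b h3).dvd_of_dvd_mul_right h5
      have h5 : IsPGroup 2 (pPrimeCore t K) := by
        obtain ⟨k, -, hk⟩ := (Nat.dvd_prime_pow Nat.prime_two).1 h4
        exact IsPGroup.of_card hk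
      have h6 := hmax _ (Lib.Cores.pPrimeCore_normal t) h5
      rw [hNb] at h6
      exact le_bot_iff.1 h6
    have hC := Lib.HallHigman.centralizer_pCore_le_of_solvable (G := K) t hOt
    have hRp : IsPGroup t (pCore t K) := Lib.Cores.pCore_isPGroup t
    have hRn : (pCore t K).Normal := Lib.Cores.pCore_normal t
    have htb : ¬ t ^ (b + 1) ∣ Nat.card K := by
      rw [hK, pow_succ, mul_comm (2 ^ a)]
      intro h3
      have h4 := Nat.dvd_of_mul_dvd_mul_left (pow_pos ht.pos b) h3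
      exact ht2 ((Nat.prime_dvd_prime_iff_eq ht Nat.prime_two).1 (ht.dvd_of_dvd_pow h4))
    have hd := card_dvd_kernel (s := 2) (t := t) (Ne.symm ht2) htb w hw hRp b T hTp
      (by rw [normalizer_eq_top]; exact le_top)
      (fun k j hk _ => by
        obtain ⟨k', hk', hk''⟩ := card_pgroup htb hRp
        have : k = k' := Nat.pow_right_injective ht.two_le (by show t ^ k = t ^ k'; rw [← hk, ← hk''])
        omega)
    have h3 : (T ⊓ centralizer (pCore t K : Set K) : Subgroup K) = ⊥ := by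
      rw [eq_bot_iff]
      refine le_trans (inf_le_inf le_rfl hC) ?_
      have h4 : Nat.Coprime (Nat.card T) (Nat.card (pCore t K)) := by
        obtain ⟨k, hk⟩ := hRp.exists_card_eq
        rw [hT, hk]
        exact Nat.Coprime.pow _ _ ((Nat.coprime_primes Nat.prime_two ht).2 (Ne.symm ht2))
      rw [(Subgroup.disjoint_of_coprime_natCard h4).eq_bot]
    rw [h3, card_bot, one_mul, hT] at hd
    have h4 := (Nat.pow_dvd_pow_iff_le_right (by norm_num : 1 < 2)).1 hd
    omega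
  -- `z ∈ N`
  have hzN : z ∈ N := by
    have hnil : Group.IsNilpotent T := hTp.isNilpotent
    have h1 : (N.subgroupOf T) ≠ ⊥ := by
      intro h
      apply hN1
      rw [subgroupOf_eq_bot] at h
      rw [eq_bot_iff]
      intro x hx
      exact h.le_bot ⟨hx, hNT hx⟩
    have h2 := Cfsg.Agent.Lib.NormalAbelian.normal_inf_center_ne_bot (N.subgroupOf T) h1
    set W : Subgroup T := N.subgroupOf T ⊓ center T with hW
    have hWp : IsPGroup 2 W := hTp.to_subgroup W
    obtain ⟨k, hk⟩ := hWp.exists_card_eq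
    have hk0 : k ≠ 0 := by
      rintro rfl
      rw [pow_zero] at hk
      exact h2 (Subgroup.eq_bot_of_card_eq W hk)
    obtain ⟨w, hw⟩ := exists_prime_orderOf_dvd_card' (G := W) 2 (by rw [hk]; exact dvd_pow_self 2 hk0)
    have hw2 : ((w : T) : K) * ((w : T) : K) = 1 := by
      have h3 : w ^ 2 = 1 := by rw [← hw]; exact pow_orderOf_eq_one w
      rw [pow_two] at h3
      exact congrArg (fun y : W => ((y : T) : K)) h3
    have hw1 : ((w : T) : K) ≠ 1 := by
      intro h3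
      have h4 : w = 1 := Subtype.ext (Subtype.ext h3)
      rw [h4, orderOf_one] at hw
      norm_num at hw
    have hwN : ((w : T) : K) ∈ N := mem_subgroupOf.mp (mem_inf.mp w.2).1
    have hwc : ∀ t ∈ T, t * ((w : T) : K) = ((w : T) : K) * t := by
      intro y hy
      have h3 := mem_center_iff.mp (mem_inf.mp w.2).2 ⟨y, hy⟩
      exact congrArg Subtype.val h3
    rcases huniq _ (w : T).2 hw2 hwc with h3 | h3
    · exact absurd h3 hw1
    · rw [← h3]; exact hwN
  -- the elementary abelian normal subgroup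
  let E : Subgroup K :=
    { carrier := {v | v ∈ N ∧ (∀ n ∈ N, n * v = v * n) ∧ v * v = 1}
      mul_mem' := by
        rintro v w ⟨hv, hv1, hv2⟩ ⟨hw, hw1, hw2⟩
        refine ⟨N.mul_mem hv hw, fun n hn => ?_, ?_⟩
        · calc n * (v * w) = (n * v) * w := by group
            _ = v * (n * w) := by rw [hv1 n hn]; group
            _ = v * w * n := by rw [hw1 n hn]; group
        · calc v * w * (v * w) = v * (w * v) * w := by group
            _ = v * (v * w) * w := by rw [hv1 w hw]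
            _ = (v * v) * (w * w) := by group
            _ = 1 := by rw [hv2, hw2, one_mul]
      one_mem' := ⟨N.one_mem, fun n _ => by rw [mul_one, one_mul], one_mul 1⟩
      inv_mem' := by
        rintro v ⟨hv, hv1, hv2⟩
        have h1 : v⁻¹ = v := by rw [inv_eq_iff_mul_eq_one, hv2]
        rw [h1]
        exact ⟨hv, hv1, hv2⟩ }
  have hEn : E.Normal := by
    refine ⟨?_⟩
    rintro v ⟨hv, hv1, hv2⟩ g
    refine ⟨hNN.conj_mem v hv g, fun n hn => ?_, ?_⟩
    · have h1 := hv1 (g⁻¹ * n * g) (by simpa using hNN.conj_mem n hn g⁻¹)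
      calc n * (g * v * g⁻¹) = g * ((g⁻¹ * n * g) * v) * g⁻¹ := by group
        _ = g * (v * (g⁻¹ * n * g)) * g⁻¹ := by rw [h1]
        _ = _ := by group
    · calc g * v * g⁻¹ * (g * v * g⁻¹) = g * (v * v) * g⁻¹ := by group
        _ = 1 := by rw [hv2]; group
  set V := normalClosure ({z} : Set K) with hV
  have hVE : V ≤ E := Subgroup.normalClosure_le_normal (by
    rw [Set.singleton_subset_iff]
    exact ⟨hzN, fun n hn => hzc n (hNT hn), hzz⟩)
  have hVN : V ≤ N := fun v hv => (hVE hv).1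
  have hVn : V.Normal := inferInstance
  have hzV : z ∈ V := Subgroup.subset_normalClosure rfl
  have hab : ∀ v ∈ V, ∀ w ∈ V, v * w = w * v := fun v hv w hw => (hVE hw).2.1 v (hVN hv)
  have hsq : ∀ v ∈ V, v * v = 1 := fun v hv => (hVE hv).2.2
  let _ : CommGroup V := { (inferInstance : Group V) with mul_comm := fun v w => Subtype.ext (hab v v.2 w w.2) }
  let ρ : K →* MulAut V := MulAut.conjNormal
  have hρ : ∀ (x : K) (v : V), ((ρ x v : V) : K) = x * v * x⁻¹ := fun x v => rfl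
  have hsolr : Group.IsSolvable ρ.range := Group.isSolvable_of_surjective ρ.rangeRestrict_surjective
  have key := ZTAct.act_main (G := ρ.range) (W := V) ρ.range.subtype ht ht2 (fun v => Subtype.ext (hsq v v.2))
    (subtype_injective _) (hsolr) (fun p hp hd => ?_) (T := T.map ρ.rangeRestrict) (hTp.map _) ?_
    (z := ⟨z, hzV⟩) ?_ ?_ ?_ ?_
  · exact key
  · have h1 : p ∣ 2 ^ a * t ^ b := by rw [← hK]; exact hd.trans (card_range_dvd ρ)
    rcases hp.dvd_mul.1 h1 with h | h
    · exact Or.inl ((Nat.prime_dvd_prime_iff_eq hp Nat.prime_two).1 (hp.dvd_of_dvd_pow h))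
    · exact Or.inr ((Nat.prime_dvd_prime_iff_eq hp ht).1 (hp.dvd_of_dvd_pow h))
  · intro h
    exact hTi (h.trans (index_map_dvd T ρ.rangeRestrict_surjective))
  · rintro _ ⟨x, hx, rfl⟩
    apply Subtype.ext
    show x * z * x⁻¹ = z
    rw [hzc x hx, mul_inv_cancel_right]
  · intro v hv
    have h1 : ∀ x ∈ T, x * (v : K) = v * x := by
      intro x hx
      have h2 := congrArg Subtype.val (hv (ρ.rangeRestrict x) ⟨x, hx, rfl⟩)
      have h3 : x * (v : K) * x⁻¹ = v := h2
      exact mul_inv_eq_iff_eq_mul.1 h3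
    rcases huniq v (hNT (hVN v.2)) (hsq v v.2) h1 with h | h
    · exact Or.inl (Subtype.ext h)
    · exact Or.inr (Subtype.ext h)
  · intro U hzU hinv
    have h1 : (U.map V.subtype).Normal := by
      refine ⟨?_⟩
      rintro _ ⟨v, hv, rfl⟩ g
      exact ⟨_, hinv (ρ.rangeRestrict g) v hv, rfl⟩
    have h2 : V ≤ U.map V.subtype := Subgroup.normalClosure_le_normal (by
      rw [Set.singleton_subset_iff]
      exact ⟨_, hzU, rfl⟩)
    rw [eq_top_iff]
    intro v _
    obtain ⟨v', hv', h3⟩ := h2 v.2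
    have : v' = v := Subtype.ext h3
    rwa [← this]
  · by_contra hcon
    push Not at hcon
    apply hcz
    have h1 : centralizer ({z} : Set K) = ⊤ := by
      rw [eq_top_iff]
      intro x _
      rw [mem_centralizer_singleton_iff]
      have h2 : x * z * x⁻¹ = z := congrArg Subtype.val (hcon (ρ.rangeRestrict x))
      exact mul_inv_eq_iff_eq_mul.1 h2
    rw [h1, card_top, hK]
    exact dvd_mul_left _ _

variable {S : Type u} [Group S] [Finite S]

/-- **(ZTP)** no Hall `{2,t}`-subgroup -/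
theorem no_ztp {M t a b m : ℕ} (hZ : ZT S M) (ht : t.Prime) (ht2 : t ≠ 2) (hS : Nat.card S = 2 ^ a * t ^ b * m)
    (h2 : ¬ 2 ∣ m) (hm : ¬ t ∣ m) (hM : ¬ t ^ b ∣ M)
    (w : ℕ → ℕ) (hw : ∀ k, 1 ≤ k → k ≤ b → ¬ 2 ^ (w k + 1) ∣ t ^ k - 1)
    (hW : ∑ i ∈ Finset.range b, w (i + 1) < a)
    (hnum : ∀ n j : ℕ, 1 ≤ n → n ≤ 2 ^ j → 2 ^ j ∣ t - 1 → ¬ t ∣ 2 ^ n - 1)
    (K : Subgroup S) : ¬ IsPiHall ({2, t} : Set ℕ) K := by
  intro hK
  have hF : Fact (Nat.Prime 2) := ⟨Nat.prime_two⟩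
  have hFp : Fact t.Prime := ⟨ht⟩
  obtain ⟨T, z, hTp, hTi, hzT, hz1, hzz, hzc, huniq, hMd⟩ := hZ
  have hcK := card_of_hall Nat.prime_two ht hS h2 hm hK
  have hn : ¬ 2 ∣ t ^ b * m := by
    intro h
    rcases Nat.prime_two.dvd_mul.1 h with h | h
    · exact ht2 ((Nat.prime_dvd_prime_iff_eq Nat.prime_two ht).1 (Nat.prime_two.dvd_of_dvd_pow h)).symm
    · exact h2 h
  have hTc : Nat.card T = 2 ^ a := by
    have h1 := H555.RV.card_sylow_of (hTp.toSylow hTi) (b := a) (n := t ^ b * m) (by rw [hS]; ring) hn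
    rwa [IsPGroup.toSylow_coe] at h1
  -- a conjugate of `T` in `K`
  obtain ⟨g, hg⟩ := exists_conj_le (s := t) (t := 2) (by rw [Set.pair_comm]; exact hK) hTp
  set φ := (MulAut.conj g).toMonoidHom with hφ
  have hφi : Function.Injective φ := (MulAut.conj g).injective
  have hφc : ∀ x ∈ T, φ x ∈ K := fun x hx => hg ⟨x, hx, rfl⟩
  set T1 : Subgroup S := T.map φ with hT1
  set T2 : Subgroup K := T1.subgroupOf K with hT2
  have hT2c : Nat.card T2 = 2 ^ a := by
    rw [hT2, Nat.card_congr (subgroupOfEquivOfLe hg).toEquiv, hT1, card_map_of_injective hφi, hTc]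
  have hdv : Nat.card (centralizer ({⟨φ z, hφc z hzT⟩} : Set K)) ∣ Nat.card (centralizer ({z} : Set S)) := by
    have h7 : (centralizer ({⟨φ z, hφc z hzT⟩} : Set K)).map K.subtype ≤ centralizer ({φ z} : Set S) := by
      rintro _ ⟨x, hx, rfl⟩
      rw [mem_centralizer_singleton_iff]
      exact congrArg Subtype.val (mem_centralizer_singleton_iff.mp hx)
    have h8 := card_dvd_of_le h7
    rw [card_map_of_injective K.subtype_injective] at h8
    have h9 : Nat.card (centralizer ({φ z} : Set S)) = Nat.card (centralizer ({z} : Set S)) :=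
      H555.RV.cent_conj_card (x := z) (g := g)
    rwa [h9] at h8
  obtain ⟨n, j, h3, h4, h5, h6⟩ := ztp_main (K := K) ht ht2 hcK (T := T2) hT2c (z := ⟨φ z, hφc z hzT⟩)
    (mem_subgroupOf.2 ⟨z, hzT, rfl⟩)
    (fun h => hz1 (hφi (by rw [map_one]; exact congrArg Subtype.val h)))
    (Subtype.ext (by show φ z * φ z = 1; rw [← map_mul, hzz, map_one]))
    (by
      rintro ⟨_, hxK⟩ ⟨x, hx, rfl⟩
      apply Subtype.ext
      show φ x * φ z = φ z * φ x
      rw [← map_mul, hzc x hx, map_mul])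
    (by
      rintro ⟨_, hxK⟩ ⟨x, hx, rfl⟩ hww hwc
      have h7 : φ x * φ x = 1 := congrArg Subtype.val hww
      rw [← map_mul] at h7
      rcases huniq x hx (hφi (by rw [h7, map_one])) (fun y hy => by
        have h8 : φ y * φ x = φ x * φ y :=
          congrArg Subtype.val (hwc ⟨φ y, hφc y hy⟩ (mem_subgroupOf.2 ⟨y, hy, rfl⟩))
        rw [← map_mul, ← map_mul] at h8
        exact hφi h8) with h | h
      · left
        apply Subtype.ext
        show φ x = 1
        rw [h, map_one]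
      · right
        apply Subtype.ext
        show φ x = φ z
        rw [h])
    w hw hW (fun hd => hM ((hd.trans hdv).trans hMd))
  exact hnum n j h3 h4 h5 h6

/-- the numerical check : `2 ^ a ∤ |GL_b(t)|` -/
def zchk (t a b : ℕ) : Bool :=
  decide (t < 32) && decide (t ^ b < 2 ^ 99) && decide (∑ i ∈ Finset.range b, vv 2 100 (t ^ (i + 1) - 1) < a) &&
    (List.range 5).all fun j => (t - 1) % 2 ^ j != 0 || (List.range 17).all fun n =>
      n == 0 || !decide (n ≤ 2 ^ j) || (2 ^ n - 1) % t != 0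

theorem no_ztp' {M t a b m : ℕ} (hZ : ZT S M) (ht : t.Prime) (ht2 : t ≠ 2) (hS : Nat.card S = 2 ^ a * t ^ b * m)
    (h2 : ¬ 2 ∣ m) (hm : ¬ t ∣ m) (hM : ¬ t ^ b ∣ M) (hchk : zchk t a b = true)
    (K : Subgroup S) : ¬ IsPiHall ({2, t} : Set ℕ) K := by
  unfold zchk at hchk
  simp only [Bool.and_eq_true] at hchk
  obtain ⟨⟨⟨h3, h4⟩, h5⟩, h6⟩ := hchk
  have h3 := of_decide_eq_true h3
  have h4 := of_decide_eq_true h4
  have h5 := of_decide_eq_true h5
  refine no_ztp hZ ht ht2 hS h2 hm hM (fun k => vv 2 100 (t ^ k - 1)) (fun k hk1 hk2 => ?_) ?_ ?_ K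
  · refine (vv_spec (by norm_num) 100 (t ^ k - 1) ?_ ?_).2
    · have := Nat.one_lt_pow (n := k) (by omega) ht.one_lt
      omega
    · have h7 : t ^ k ≤ t ^ b := Nat.pow_le_pow_right ht.pos hk2
      have h8 : (2 : ℕ) ^ 99 ≤ 2 ^ 100 := by norm_num
      omega
  · exact h5
  · intro n j hn1 hn2 hj hd
    have hj5 : j < 5 := by
      by_contra hcon
      have h7 : 2 ^ 5 ∣ t - 1 := (pow_dvd_pow 2 (by omega)).trans hj
      have := ht.one_lt
      have h8 := Nat.le_of_dvd (by omega) h7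
      omega
    have hn17 : n < 17 := by
      have : 2 ^ j ≤ 2 ^ 4 := Nat.pow_le_pow_right (by norm_num) (by omega)
      omega
    have h7 := List.all_eq_true.1 h6 j (List.mem_range.2 hj5)
    simp only [Bool.or_eq_true, bne_iff_ne, ne_eq] at h7
    rcases h7 with h7 | h7
    · exact h7 (Nat.mod_eq_zero_of_dvd hj)
    · have h8 := List.all_eq_true.1 h7 n (List.mem_range.2 hn17)
      simp only [Bool.or_eq_true, bne_iff_ne, ne_eq, beq_iff_eq, Bool.not_eq_true', decide_eq_false_iff_not] at h8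
      rcases h8 with (h8 | h8) | h8
      · omega
      · exact h8 hn2
      · exact h8 (Nat.mod_eq_zero_of_dvd hd)

example : zchk 7 21 2 = true := by decide +kernel
example : zchk 7 46 6 = true := by decide +kernel
example : zchk 11 46 2 = true := by decide +kernel
example : zchk 13 46 3 = true := by decide +kernel
example : zchk 13 41 1 = true := by decide +kernel
example : zchk 31 21 1 = true := by decide +kernel

end Cfsg.Agent.H464.RM
end
end

-- part: H153/RM/J4
section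
set_option linter.all false
open scoped Cfsg.Agent.FastGrp

/-!
# S3849, P11: `J4` (helper153)
-/

set_option autoImplicit false

namespace Cfsg.Agent.H153.RM

open Cfsg Subgroup Cfsg.Agent.H571.DExt Cfsg.Agent.H555.RV Cfsg.Agent.H171.RM

universe u

namespace JFour

open Cfsg.Agent.H859
open Cfsg.Agent.H171.Odd (Inv1 inv1_of_cent)

theorem hc : Nat.card Spor.J4 = 86775571046077562880 := NotCT.Orders.j4 ⟨MulEquiv.refl _⟩

theorem hfin : Finite Spor.J4 := Nat.finite_of_card_ne_zero (by rw [hc]; norm_num)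

theorem hsim : IsSimpleGroup Spor.J4 := Cfsg.Agent.S1703.result.1

theorem hna : ¬ IsMulCommutative Spor.J4 := by
  have := hfin
  have := hsim
  intro hcm
  let _ : CommGroup Spor.J4 := { (inferInstance : Group Spor.J4) with mul_comm := fun a b => hcm.is_comm.comm a b }
  have h3 : (Nat.card Spor.J4).Prime := IsSimpleGroup.prime_card
  rw [hc] at h3
  revert h3
  norm_num

theorem hJ : IsOfJankoFourType Spor.J4 := H337.isOfJankoFourType_of_isoJ4 ⟨MulEquiv.refl _⟩

theorem exists_sub {t : ℕ} (ht : t.Prime) (hd : t ∣ 86775571046077562880) :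
    ∃ P : Subgroup Spor.J4, Nat.card P = t := by
  have := hfin
  have := Fact.mk ht
  obtain ⟨x, hx⟩ := exists_prime_orderOf_dvd_card' (G := Spor.J4) t (by rw [hc]; exact hd)
  exact ⟨zpowers x, by rw [Nat.card_zpowers, hx]⟩

theorem p2_5 : ¬ Dom ({2, 5} : Set ℕ) Spor.J4 :=
  have := hfin
  nd_norm (a := 21) (b := 8) Nat.prime_two (by norm_num) (by norm_num) hc H858.Loc5.card_F5 H858.Loc5.card_normalizer_F5
    (by decide +kernel)

theorem p2_23 : ¬ Dom ({2, 23} : Set ℕ) Spor.J4 := by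
  have := hfin
  obtain ⟨P, hP⟩ := exists_sub (t := 23) (by norm_num) (by norm_num)
  exact nd_norm (a := 21) (b := 1) Nat.prime_two (by norm_num) (by norm_num) hc hP (BigNum.data23 hP).2 (by decide +kernel)

theorem p2_29 : ¬ Dom ({2, 29} : Set ℕ) Spor.J4 := by
  have := hfin
  obtain ⟨P, hP⟩ := exists_sub (t := 29) (by norm_num) (by norm_num)
  exact nd_norm (a := 21) (b := 2) Nat.prime_two (by norm_num) (by norm_num) hc hP (BigNum.data29' hP).2
    (by decide +kernel)

theorem p2_37 : ¬ Dom ({2, 37} : Set ℕ) Spor.J4 := by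
  have := hfin
  obtain ⟨P, hP⟩ := exists_sub (t := 37) (by norm_num) (by norm_num)
  exact nd_norm (a := 21) (b := 2) Nat.prime_two (by norm_num) (by norm_num) hc hP (BigNum.data37 hP).2 (by decide +kernel)

theorem p2_43 : ¬ Dom ({2, 43} : Set ℕ) Spor.J4 := by
  have := hfin
  obtain ⟨P, hP⟩ := exists_sub (t := 43) (by norm_num) (by norm_num)
  exact nd_norm (a := 21) (b := 1) Nat.prime_two (by norm_num) (by norm_num) hc hP (BigNum.data43 hP).2 (by decide +kernel)

/-! ### the prime 11 -/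

theorem eleven : ∃ P : Subgroup Spor.J4, Nat.card P = 11 ^ 3 ∧
    Nat.card (normalizer (P : Set Spor.J4)) = 319440 := by
  have := hfin
  have := hsim
  have : Fact (Nat.Prime 11) := ⟨by norm_num⟩
  obtain ⟨U⟩ : Nonempty (Sylow 11 Spor.J4) := inferInstance
  obtain ⟨-, h1, -, h2, -⟩ := Cfsg.Agent.S5575.result hna hJ U
  exact ⟨U, h1, by rw [h2]; norm_num⟩

theorem p2_11 : ¬ Dom ({2, 11} : Set ℕ) Spor.J4 := by
  have := hfin
  obtain ⟨P, h1, h2⟩ := eleven
  exact nd_chk (a := 21) (b := 4) Nat.prime_two (by norm_num) (by norm_num) hc h1 h2 (by decide +kernel)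

theorem p3_11 : ¬ Dom ({3, 11} : Set ℕ) Spor.J4 := by
  have := hfin
  obtain ⟨P, h1, h2⟩ := eleven
  exact nd_chk (a := 3) (b := 1) Nat.prime_three (by norm_num) (by norm_num) hc h1 h2 (by decide +kernel)

theorem p7_11 : ¬ Dom ({7, 11} : Set ℕ) Spor.J4 := by
  have := hfin
  obtain ⟨P, h1, h2⟩ := eleven
  exact nd_chk (a := 1) (b := 0) (by norm_num) (by norm_num) (by norm_num) hc h1 h2 (by decide +kernel)

/-! ### the prime 7 -/

/-- `S7` is conjugate to every subgroup of order 7 -/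
theorem seven {x : Spor.J4} (hx : orderOf x = 7) : Nat.card (centralizer ({x} : Set Spor.J4)) = 840 ∧
    Nat.card (normalizer (zpowers x : Set Spor.J4)) = 2520 := by
  have := hfin
  have hf : Fact (Nat.Prime 7) := ⟨by norm_num⟩
  have h49 : ¬ 7 ^ 2 ∣ Nat.card Spor.J4 := by rw [hc]; norm_num
  have hX : Nat.card (zpowers x) = 7 := by rw [Nat.card_zpowers, hx]
  obtain ⟨P, hP⟩ : ∃ P : Sylow 7 Spor.J4, (P : Subgroup Spor.J4) = zpowers x := by
    obtain ⟨P, hP⟩ := (IsPGroup.of_card (p := 7) (n := 1) (G := zpowers x) (by rw [hX, pow_one])).exists_le_sylow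
    refine ⟨P, (eq_of_le_of_card_ge hP ?_).symm⟩
    obtain ⟨k, hk⟩ := P.isPGroup'.exists_card_eq
    have h1 : k ≤ 1 := by
      by_contra hlt
      apply h49
      have h2 := card_subgroup_dvd_card (P : Subgroup Spor.J4)
      rw [hk] at h2
      exact (pow_dvd_pow 7 (by omega)).trans h2
    rw [hX, hk]
    exact (Nat.pow_le_pow_right (by norm_num) h1).trans (by norm_num)
  obtain ⟨S, hS⟩ : ∃ S : Sylow 7 Spor.J4, (S : Subgroup Spor.J4) = H858.Norm57.S7 :=
    ⟨H858.Norm57.isPGroup_S7.toSylow H858.Norm57.not_dvd_S7, rfl⟩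
  obtain ⟨g, hg⟩ := MulAction.exists_smul_eq Spor.J4 S P
  have h1 : H858.Norm57.S7.map (MulAut.conj g).toMonoidHom = zpowers x := by
    have := congrArg (fun X : Sylow 7 Spor.J4 => (X : Subgroup Spor.J4)) hg
    rw [← hP, ← this, ← hS]
    rfl
  have h2 : Nat.card (centralizer (zpowers x : Set Spor.J4)) = 840 := by
    rw [← h1, ← H858.Abs.map_centralizer_equiv, card_map_of_injective (MulAut.conj g).injective, H858.Loc7.card_C]
  refine ⟨?_, ?_⟩
  · rw [← h2]
    congr 2
    ext y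
    rw [mem_centralizer_singleton_iff, mem_centralizer_iff]
    constructor
    · rintro h _ ⟨k, rfl⟩
      exact ((show Commute x y from h.symm).zpow_left k).eq
    · intro h
      exact (h x (mem_zpowers x)).symm
  · rw [← h1, ← H858.Abs.map_normalizer_equiv, card_map_of_injective (MulAut.conj g).injective, H858.Norm57.card_normalizer_S7]

theorem p2_7 : ¬ Dom ({2, 7} : Set ℕ) Spor.J4 := by
  have := hfin
  have hI : Inv1 2 7 Spor.J4 := by
    refine inv1_of_cent (a := 20) (w := 1) (b := 1) Nat.prime_two (by norm_num) (by rw [hc]; norm_num)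
      (by rw [hc]; norm_num) ?_ ?_
    · intro k h1 h2
      interval_cases k
      norm_num
    · intro y hy
      rw [(seven hy).1]
      norm_num
  refine no2_of_odd (a := 21) (m := 5911116671295) (by norm_num) (by norm_num) (by rw [hc]; norm_num) (by norm_num)
    (by norm_num) hI ?_ ?_
  · intro x hx t k ht htn
    exact cent_of_odd (e := 3) (by norm_num) (by rw [(seven hx).1, (seven hx).2]) t k ht htn
  · intro T hT hTi
    have hf : Fact (Nat.Prime 2) := ⟨Nat.prime_two⟩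
    exact QTNorm.JFour.selfN_j4 ⟨MulEquiv.refl _⟩ (hT.toSylow hTi)

/-! ### the prime 31 -/

theorem p2_31 : ¬ Dom ({2, 31} : Set ℕ) Spor.J4 := by
  have := hfin
  have hf : Fact (Nat.Prime 31) := ⟨by norm_num⟩
  obtain ⟨z, P, hz, hE, -, hC, -⟩ := hJ
  have hzz : z * z = 1 := by rw [← pow_two, ← hz, pow_orderOf_eq_one]
  have hz1 : z ≠ 1 := by
    rintro rfl
    rw [orderOf_one] at hz
    norm_num at hz
  set E := twoCoreOfCentralizer z with hEd
  have hEC : E ≤ centralizer ({z} : Set Spor.J4) := map_subtype_le _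
  have h31 : ¬ 31 ∣ Nat.card (centralizer ({z} : Set Spor.J4)) := by
    intro hd
    obtain ⟨⟨x, hxz⟩, hx⟩ := exists_prime_orderOf_dvd_card' 31 hd
    rw [Subgroup.orderOf_mk] at hx
    have hX : Nat.card (zpowers x) = 31 := by rw [Nat.card_zpowers, hx]
    have h1 := (BigNum.data31 hX).1
    have h2 : z ∈ centralizer (zpowers x : Set Spor.J4) := by
      rw [mem_centralizer_iff]
      rintro _ ⟨k, rfl⟩
      exact ((show Commute x z from mem_centralizer_singleton_iff.1 hxz).zpow_left k).eq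
    have h3 := Subgroup.orderOf_dvd_natCard _ h2
    rw [hz, h1] at h3
    norm_num at h3
  have hEp : IsPGroup 2 E := by
    have : Fact (Nat.Prime 2) := ⟨Nat.prime_two⟩
    exact (Lib.Cores.pCore_isPGroup 2).map _
  -- the centre of `E`
  have hZ : Nat.card (center E) = 2 := hE.2
  have hzE : z ∈ E := hC (Subgroup.mem_inf.2 ⟨mem_centralizer_singleton_iff.2 rfl, by
    rw [mem_centralizer_iff]
    intro y hy
    exact mem_centralizer_singleton_iff.1 (hEC hy)⟩)
  have hzt := H171.RV.TwoP.zt_of_cent (S := Spor.J4) (R := E) (z := z) hEp hz1 hzz (M := Nat.card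
    (centralizer ({z} : Set Spor.J4))) (fun x hxx hx => by
    have hxz : x * z = z * x := (hx z hzE).symm
    have hxE : x ∈ E := hC (Subgroup.mem_inf.2 ⟨mem_centralizer_singleton_iff.2 hxz, by
      rw [mem_centralizer_iff]
      exact hx⟩)
    by_contra hcon
    push Not at hcon
    have h1 : (⟨z, hzE⟩ : E) ∈ center E := by
      rw [mem_center_iff]
      intro y
      exact Subtype.ext (mem_centralizer_singleton_iff.1 (hEC y.2))
    have h2 : (⟨x, hxE⟩ : E) ∈ center E := by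
      rw [mem_center_iff]
      intro y
      exact Subtype.ext (hx y y.2)
    have h3 : ({1, ⟨_, h1⟩, ⟨_, h2⟩} : Set (center E)).ncard = 3 := by
      rw [Set.ncard_insert_of_notMem, Set.ncard_pair]
      · intro h4
        exact hcon.2 (congrArg (fun y : center E => ((y : E) : Spor.J4)) h4).symm
      · rintro (h4 | h4)
        · exact hz1 (congrArg (fun y : center E => ((y : E) : Spor.J4)) h4).symm
        · exact hcon.1 (congrArg (fun y : center E => ((y : E) : Spor.J4)) h4).symm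
    have h4 := Set.ncard_le_card ({1, ⟨_, h1⟩, ⟨_, h2⟩} : Set (center E))
    rw [h3, hZ] at h4
    omega) dvd_rfl
  exact H171.RV.TwoP.no2_of_zt hzt (a := 21) (b := 1334768280615) (by norm_num) (by rw [hc]; norm_num)
    (by decide +kernel) (by norm_num) (by norm_num) h31

end JFour

variable {S : Type u} [Group S] [Finite S]

theorem no2_j4_5 (h : Spor.IsoJ4 S) : ¬ Dom ({2, 5} : Set ℕ) S := by
  obtain ⟨e⟩ := h
  exact fun hD => JFour.p2_5 (dom_equiv e hD)
theorem no2_j4_7 (h : Spor.IsoJ4 S) : ¬ Dom ({2, 7} : Set ℕ) S := by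
  obtain ⟨e⟩ := h
  exact fun hD => JFour.p2_7 (dom_equiv e hD)
theorem no2_j4_11 (h : Spor.IsoJ4 S) : ¬ Dom ({2, 11} : Set ℕ) S := by
  obtain ⟨e⟩ := h
  exact fun hD => JFour.p2_11 (dom_equiv e hD)
theorem no2_j4_23 (h : Spor.IsoJ4 S) : ¬ Dom ({2, 23} : Set ℕ) S := by
  obtain ⟨e⟩ := h
  exact fun hD => JFour.p2_23 (dom_equiv e hD)
theorem no2_j4_29 (h : Spor.IsoJ4 S) : ¬ Dom ({2, 29} : Set ℕ) S := by
  obtain ⟨e⟩ := h
  exact fun hD => JFour.p2_29 (dom_equiv e hD)
theorem no2_j4_31 (h : Spor.IsoJ4 S) : ¬ Dom ({2, 31} : Set ℕ) S := by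
  obtain ⟨e⟩ := h
  exact fun hD => JFour.p2_31 (dom_equiv e hD)
theorem no2_j4_37 (h : Spor.IsoJ4 S) : ¬ Dom ({2, 37} : Set ℕ) S := by
  obtain ⟨e⟩ := h
  exact fun hD => JFour.p2_37 (dom_equiv e hD)
theorem no2_j4_43 (h : Spor.IsoJ4 S) : ¬ Dom ({2, 43} : Set ℕ) S := by
  obtain ⟨e⟩ := h
  exact fun hD => JFour.p2_43 (dom_equiv e hD)
theorem no_j4_3_11 (h : Spor.IsoJ4 S) : ¬ Dom ({3, 11} : Set ℕ) S := by
  obtain ⟨e⟩ := h
  exact fun hD => JFour.p3_11 (dom_equiv e hD)
theorem no_j4_7_11 (h : Spor.IsoJ4 S) : ¬ Dom ({7, 11} : Set ℕ) S := by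
  obtain ⟨e⟩ := h
  exact fun hD => JFour.p7_11 (dom_equiv e hD)

end Cfsg.Agent.H153.RM
end

-- part: H469/RM/Orb
section
set_option linter.all false
open scoped Cfsg.Agent.FastGrp

-- part: H180/RM/Orb
section
/-!
# Hall `{s, t}`-subgroups with a normal Sylow `t`-subgroup: small orbits (helper180)

* `no_orb` : `t` does not divide `s ^ k - 1` (`k ≤ a`), `s ^ (w + 1)` does not divide `t ^ b - 1`, `s ^ (a - w)` does not
  divide `|C(y)|` for `y` of order `t`;
* `no_orb_z` : the same with `t ^ b - t`, for a nonabelian Sylow `t`-subgroup of order `t ^ 3`.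
-/

set_option autoImplicit false

namespace Cfsg.Agent.H180.RM

open Subgroup Cfsg Cfsg.Agent.H571.DExt Cfsg.Agent.H988.CPi Cfsg.Agent.H555.RV Cfsg.Agent.H464.RM
open Cfsg.Agent.H171.Odd (Inv1 not_dvd_index_map card_pgroup card_sylow exists_small_orbit)

universe u

variable {S : Type u} [Group S]

/-- the two Sylow subgroups -/
theorem exists_syl [Finite S] {s t a b m : ℕ} (hs : s.Prime) (ht : t.Prime) (hst : s ≠ t)
    (hS : Nat.card S = s ^ a * t ^ b * m) (h2 : ¬ s ∣ m) (hm : ¬ t ∣ m)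
    (hn : ∀ k, 1 ≤ k → k ≤ a → ¬ t ∣ s ^ k - 1) {K : Subgroup S} (hK : IsPiHall ({s, t} : Set ℕ) K) :
    ∃ T P : Subgroup S, IsPGroup t T ∧ ¬ t ∣ T.index ∧ Nat.card T = t ^ b ∧ IsPGroup s P ∧ s ^ a ∣ Nat.card P ∧
      P ≤ normalizer (T : Set S) := by
  have hft : Fact t.Prime := ⟨ht⟩
  have hfs : Fact s.Prime := ⟨hs⟩
  have hcK := card_of_hall hs ht hS h2 hm hK
  obtain ⟨T⟩ : Nonempty (Sylow t K) := inferInstance
  have hTn := normal_of_count hs hcK hn T
  set T' : Subgroup S := (T : Subgroup K).map K.subtype with hT'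
  have hT'i : ¬ t ∣ T'.index := not_dvd_index_map (by simp) hK T
  have hT'p : IsPGroup t T' := T.isPGroup'.map _
  have h1 : K ≤ normalizer (T' : Set S) := by
    intro x hx
    apply mem_normalizer_fintype
    rintro y ⟨z, hz, rfl⟩
    exact ⟨⟨x, hx⟩ * z * ⟨x, hx⟩⁻¹, hTn.conj_mem z hz _, by simp⟩
  obtain ⟨P⟩ : Nonempty (Sylow s K) := inferInstance
  set P' : Subgroup S := (P : Subgroup K).map K.subtype with hP'
  have hP'i : ¬ s ∣ P'.index := not_dvd_index_map (by simp) hK P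
  have hP'p : IsPGroup s P' := P.isPGroup'.map _
  have hP'K : P' ≤ K := map_subtype_le _
  have hsa : s ^ a ∣ Nat.card P' := card_sylow (by rw [hS]; exact ((dvd_mul_right _ _).trans (dvd_mul_right _ _))) hP'i
  refine ⟨T', P', hT'p, hT'i, ?_, hP'p, hsa, hP'K.trans h1⟩
  have htb : ¬ t ^ (b + 1) ∣ Nat.card S := by
    rw [hS, show s ^ a * t ^ b * m = t ^ b * (s ^ a * m) by ring, pow_succ]
    intro h3
    have h4 := Nat.dvd_of_mul_dvd_mul_left (pow_pos ht.pos b) h3
    rcases ht.dvd_mul.1 h4 with h5 | h5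
    · exact hst ((Nat.prime_dvd_prime_iff_eq ht hs).1 (ht.dvd_of_dvd_pow h5)).symm
    · exact hm h5
  obtain ⟨k, hk, hc⟩ := card_pgroup htb hT'p
  have h3 : t ^ b ∣ Nat.card T' := card_sylow (by rw [hS]; exact ⟨s ^ a * m, by ring⟩) hT'i
  rw [hc] at h3 ⊢
  have h4 := (Nat.pow_dvd_pow_iff_le_right ht.one_lt).1 h3
  rw [le_antisymm hk h4]

/-- an element of order `t` in the centralizer -/
theorem exists_power [Finite S] {t : ℕ} (ht : t.Prime) {T : Subgroup S} (hT : IsPGroup t T) {y : S} (hy : y ∈ T)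
    (hy1 : y ≠ 1) : ∃ z : S, z ∈ zpowers y ∧ orderOf z = t := by
  obtain ⟨n, hn⟩ := hT ⟨y, hy⟩
  have hn' : y ^ t ^ n = 1 := congrArg Subtype.val hn
  obtain ⟨j, -, hj⟩ := (Nat.dvd_prime_pow ht).1 (orderOf_dvd_of_pow_eq_one hn')
  rcases Nat.eq_zero_or_pos j with h | h
  · rw [h, pow_zero, orderOf_eq_one_iff] at hj
    exact absurd hj hy1
  · obtain ⟨i, rfl⟩ := Nat.exists_eq_succ_of_ne_zero h.ne'
    refine ⟨y ^ t ^ i, Subgroup.pow_mem _ (mem_zpowers y) _, ?_⟩
    rw [orderOf_pow, hj, Nat.gcd_eq_right (pow_dvd_pow t (Nat.le_succ i)), Nat.pow_div (Nat.le_succ i) ht.pos]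
    simp

theorem cent_le_of_mem {y z : S} (h : z ∈ zpowers y) : centralizer ({y} : Set S) ≤ centralizer ({z} : Set S) := by
  intro g hg
  rw [mem_centralizer_singleton_iff] at hg ⊢
  obtain ⟨k, rfl⟩ := mem_zpowers_iff.1 h
  exact ((show Commute g y from hg).zpow_right k).eq

theorem no_orb [Finite S] {s t a b m w : ℕ} (hs : s.Prime) (ht : t.Prime) (hst : s ≠ t)
    (hS : Nat.card S = s ^ a * t ^ b * m) (h2 : ¬ s ∣ m) (hm : ¬ t ∣ m)
    (hn : ∀ k, 1 ≤ k → k ≤ a → ¬ t ∣ s ^ k - 1) (hw : ¬ s ^ (w + 1) ∣ t ^ b - 1) (hwa : w ≤ a)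
    (hc : ∀ y : S, orderOf y = t → ¬ s ^ (a - w) ∣ Nat.card (centralizer ({y} : Set S)))
    (K : Subgroup S) : ¬ IsPiHall ({s, t} : Set ℕ) K := by
  intro hK
  have hfs : Fact s.Prime := ⟨hs⟩
  obtain ⟨T, P, hT, -, hcT, hP, hcP, hPT⟩ := exists_syl hs ht hst hS h2 hm hn hK
  obtain ⟨y, hy, hy1, hd⟩ := exists_small_orbit (R1 := ⊥) (w := w) hP hPT (by
    intro g _
    apply mem_normalizer_fintype
    intro n hn
    rw [SetLike.mem_coe, mem_bot] at hn ⊢
    rw [hn]
    group) bot_le (by rw [hcT, card_bot]; exact hw)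
  rw [mem_bot] at hy1
  obtain ⟨z, hz, hzt⟩ := exists_power ht hT hy hy1
  apply hc z hzt
  have h1 : s ^ (a - w) ∣ Nat.card ↥(P ⊓ centralizer ({y} : Set S)) := by
    apply Nat.dvd_of_mul_dvd_mul_right (pow_pos hs.pos w)
    rw [← pow_add, Nat.sub_add_cancel hwa]
    exact hcP.trans hd
  exact h1.trans ((card_dvd_of_le inf_le_right).trans (card_dvd_of_le (cent_le_of_mem hz)))

end Cfsg.Agent.H180.RM
end

-- part: H469/RM/Orb
section
/-!
# S3849, P11: `HS` (3,5), `He` (3,5), `HN` (3,5) (helper469)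
-/

set_option autoImplicit false
set_option maxRecDepth 100000

namespace Cfsg.Agent.H469.RM

open Cfsg Subgroup Cfsg.Agent.H571.DExt Cfsg.Agent.H555.RV Cfsg.Agent.H464.RM

universe u

variable {S : Type u} [Group S] [Finite S]

theorem hs35 : ¬ Dom ({3, 5} : Set ℕ) Spor.HS := by
  have := H647.SpF.HS.finite
  refine nd_of (H180.RM.no_orb (s := 3) (t := 5) (a := 2) (b := 3) (m := 39424) (w := 0) (by norm_num) (by norm_num)
    (by norm_num) (by rw [H647.SpF.HS.card]; norm_num) (by norm_num) (by norm_num) ?_ (by norm_num) (by norm_num) ?_)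
  · intro k h1 h2
    interval_cases k <;> norm_num
  · intro y hy hd
    have h := hd.trans (H647.SpF.HS.five hy)
    norm_num at h

theorem no_hs_3_5 (h : Spor.IsoHS S) : ¬ Dom ({3, 5} : Set ℕ) S := by
  obtain ⟨e⟩ := h
  exact fun hD => hs35 (dom_equiv e hD)

theorem card_he : Nat.card Spor.He = 4030387200 := NotCT.Orders.he ⟨MulEquiv.refl _⟩

theorem he35 : ¬ Dom ({3, 5} : Set ℕ) Spor.He := by
  have := H436.HeFive.finite_he
  refine nd_of (H180.RM.no_orb (s := 3) (t := 5) (a := 3) (b := 2) (m := 5970944) (w := 1) (by norm_num) (by norm_num)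
    (by norm_num) (by rw [card_he]; norm_num) (by norm_num) (by norm_num) ?_ (by norm_num) (by norm_num) ?_)
  · intro k h1 h2
    interval_cases k <;> norm_num
  · intro y hy hd
    have h := hd.trans (H436.HeFive.cent5 y hy)
    norm_num at h

theorem no_he_3_5 (h : Spor.IsoHe S) : ¬ Dom ({3, 5} : Set ℕ) S := by
  obtain ⟨e⟩ := h
  exact fun hD => he35 (dom_equiv e hD)

/-- the 3-parts of `5 ^ k - 1` -/
def w3 (k : ℕ) : ℕ := if k = 6 then 2 else if k % 2 = 0 then 1 else 0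

theorem hw3 : ∀ k, 1 ≤ k → k ≤ 6 → ¬ 3 ^ (w3 k + 1) ∣ 5 ^ k - 1 := by
  intro k h1 h2
  interval_cases k <;> decide +kernel

theorem hn35 : ¬ Dom ({3, 5} : Set ℕ) Spor.HN := by
  have hfin : Finite Spor.HN := Cfsg.Agent.KFacts.HN.finite_HN
  rw [Set.pair_comm]
  refine nd_of (no_gl (s := 5) (t := 3) (a := 6) (b := 6) (m := 23969792) Nat.prime_five Nat.prime_three (by norm_num)
    (by rw [Cfsg.Agent.KFacts.HN.Classes.card_HN]; norm_num) (by norm_num) (by norm_num) ?_ w3 hw3 (by decide))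
  refine H555.Hall.HNFive.inv1_five (b := 6) (by norm_num) (by norm_num) (by norm_num) (by norm_num) ?_
  intro k h1 h2
  interval_cases k <;> norm_num

theorem no_hn_3_5 (h : Spor.IsoHN S) : ¬ Dom ({3, 5} : Set ℕ) S := by
  obtain ⟨e⟩ := h
  exact fun hD => hn35 (dom_equiv e hD)

end Cfsg.Agent.H469.RM
end
end
end
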